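import Groth.Agent.H12Pic.InvDesc.Eff.Units

/-!
# Effective descent of line bundles given by units

A line bundle on `P` is a system of transition units, a descent datum along `q : P ⟶ X` a system of units on pairs
of points over the same point of `X`. Near every point of `X` there is a frame which is invariant under the datum.
-/

set_option autoImplicit false
set_option linter.style.haveILetI false
set_option linter.unusedSectionVars false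

noncomputable section

universe u

open CategoryTheory CategoryTheory.Limits AlgebraicGeometry TopologicalSpace Opposite

namespace Groth.Agent.H12Pic.InvDesc.Eff

/-- A line bundle given by transition units. -/
structure LineData (P : Scheme.{u}) where
  J : Type u
  W : J → P.Opens
  cover : ∀ x, ∃ i, x ∈ W i
  g : ∀ {T : Scheme.{u}} (k : T ⟶ P) (i j : J), (⊤ : T.Opens) ≤ k ⁻¹ᵁ W i → (⊤ : T.Opens) ≤ k ⁻¹ᵁ W j → GU T
  g_nat : ∀ {T' T : Scheme.{u}} (m : T' ⟶ T) (k : T ⟶ P) (k' : T' ⟶ P) (_ : m ≫ k = k') (i j : J) hi hj hi' hj',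
    g k' i j hi' hj' = pull m (g k i j hi hj)
  g_mul : ∀ {T : Scheme.{u}} (k : T ⟶ P) (i j l : J) hi hj hl, g k i j hi hj * g k j l hj hl = g k i l hi hl

variable {P X : Scheme.{u}}

theorem LineData.g_self (D : LineData P) {T : Scheme.{u}} (k : T ⟶ P) (i : D.J) (hi hi') :
    D.g k i i hi hi' = 1 := by
  simpa using D.g_mul k i i i hi hi' hi

/-- A descent datum on a line bundle. -/
structure Glue (D : LineData P) (q : P ⟶ X) where
  θ : ∀ {T : Scheme.{u}} (k₁ k₂ : T ⟶ P) (_ : k₁ ≫ q = k₂ ≫ q) (i j : D.J),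
    (⊤ : T.Opens) ≤ k₁ ⁻¹ᵁ D.W i → (⊤ : T.Opens) ≤ k₂ ⁻¹ᵁ D.W j → GU T
  θ_nat : ∀ {T' T : Scheme.{u}} (m : T' ⟶ T) (k₁ k₂ : T ⟶ P) (h : k₁ ≫ q = k₂ ≫ q) (k₁' k₂' : T' ⟶ P)
    (_ : m ≫ k₁ = k₁') (_ : m ≫ k₂ = k₂') (h' : k₁' ≫ q = k₂' ≫ q) (i j : D.J) hi hj hi' hj',
    θ k₁' k₂' h' i j hi' hj' = pull m (θ k₁ k₂ h i j hi hj)
  left : ∀ {T : Scheme.{u}} (k₁ k₂ : T ⟶ P) (h : k₁ ≫ q = k₂ ≫ q) (i i' j : D.J) hi hi' hj,
    D.g k₁ i i' hi hi' * θ k₁ k₂ h i' j hi' hj = θ k₁ k₂ h i j hi hj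
  right : ∀ {T : Scheme.{u}} (k₁ k₂ : T ⟶ P) (h : k₁ ≫ q = k₂ ≫ q) (i j j' : D.J) hi hj hj',
    θ k₁ k₂ h i j hi hj * D.g k₂ j j' hj hj' = θ k₁ k₂ h i j' hi hj'
  mul : ∀ {T : Scheme.{u}} (k₁ k₂ k₃ : T ⟶ P) (h₁₂ : k₁ ≫ q = k₂ ≫ q) (h₂₃ : k₂ ≫ q = k₃ ≫ q) (i j l : D.J) hi hj hl,
    θ k₁ k₂ h₁₂ i j hi hj * θ k₂ k₃ h₂₃ j l hj hl = θ k₁ k₃ (h₁₂.trans h₂₃) i l hi hl

/-- A frame of the pullback of a line bundle. -/
structure Frame (D : LineData P) {W : Scheme.{u}} (w : W ⟶ P) where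
  τ : ∀ {T : Scheme.{u}} (t : T ⟶ W) (i : D.J), (⊤ : T.Opens) ≤ (t ≫ w) ⁻¹ᵁ D.W i → GU T
  τ_nat : ∀ {T' T : Scheme.{u}} (m : T' ⟶ T) (t : T ⟶ W) (t' : T' ⟶ W) (_ : m ≫ t = t') (i : D.J) hi hi',
    τ t' i hi' = pull m (τ t i hi)
  trans : ∀ {T : Scheme.{u}} (t : T ⟶ W) (i j : D.J) hi hj, τ t i hi = D.g (t ≫ w) i j hi hj * τ t j hj

/-- An invariant frame near a part of the base. -/
structure InvFrame {D : LineData P} {q : P ⟶ X} (G : Glue D q) where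
  V : X.Opens
  z : ∀ {T : Scheme.{u}} (k : T ⟶ P) (i : D.J), (⊤ : T.Opens) ≤ (k ≫ q) ⁻¹ᵁ V → (⊤ : T.Opens) ≤ k ⁻¹ᵁ D.W i → GU T
  z_nat : ∀ {T' T : Scheme.{u}} (m : T' ⟶ T) (k : T ⟶ P) (k' : T' ⟶ P) (_ : m ≫ k = k') (i : D.J) hV hi hV' hi',
    z k' i hV' hi' = pull m (z k i hV hi)
  equiv : ∀ {T : Scheme.{u}} (k₁ k₂ : T ⟶ P) (h : k₁ ≫ q = k₂ ≫ q) (i j : D.J) hV₁ hV₂ hi hj,
    z k₁ i hV₁ hi = G.θ k₁ k₂ h i j hi hj * z k₂ j hV₂ hj

theorem InvFrame.trans {D : LineData P} {q : P ⟶ X} {G : Glue D q} (Z : InvFrame G) {T : Scheme.{u}} (k : T ⟶ P)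
    (i j : D.J) (hV : (⊤ : T.Opens) ≤ (k ≫ q) ⁻¹ᵁ Z.V) (hi hj) :
    Z.z k i hV hi = D.g k i j hi hj * Z.z k j hV hj := by
  have h₁ : G.θ k k rfl i i hi hi = 1 := by simpa using G.mul k k k rfl rfl i i i hi hi hi
  have h₂ := G.right k k rfl i i j hi hi hj
  rw [h₁, one_mul] at h₂
  rw [h₂]
  exact Z.equiv k k rfl i j hV hV hi hj

variable {V₀ : X.Opens} {W : Scheme.{u}} (g : W ⟶ V₀.toScheme) [Flat g] [Surjective g] [QuasiCompact g]

/-- Two units agree if they agree after pullback to the cover. -/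
theorem eq_of_pr {T : Scheme.{u}} (s : T ⟶ V₀.toScheme) {a a' : GU T}
    (h : pull (pullback.fst s g) a = pull (pullback.fst s g) a') : a = a' := by
  haveI : Flat (pullback.fst s g) := MorphismProperty.pullback_fst _ _ ‹_›
  haveI : Surjective (pullback.fst s g) := MorphismProperty.pullback_fst _ _ ‹_›
  haveI : QuasiCompact (pullback.fst s g) := MorphismProperty.pullback_fst _ _ ‹_›
  exact pull_injective (pullback.fst s g) h

/-- A natural family on the points of the cover which does not depend on the point descends. -/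
theorem exists_pr_desc {T : Scheme.{u}} (s : T ⟶ V₀.toScheme) {ι : Type u} (O : ι → (pullback s g).Opens)
    (hO : ∀ x, ∃ i, x ∈ O i)
    (F : ∀ (T' : Scheme.{u}) (l : T' ⟶ pullback s g) (i : ι), (⊤ : T'.Opens) ≤ l ⁻¹ᵁ O i → GU T')
    (hnat : ∀ (T'' T' : Scheme.{u}) (m : T'' ⟶ T') (l : T' ⟶ pullback s g) (i : ι) (h : (⊤ : T'.Opens) ≤ l ⁻¹ᵁ O i),
      F T'' (m ≫ l) i (lands_comp m h) = pull m (F T' l i h))
    (hinv : ∀ (T' : Scheme.{u}) (l l' : T' ⟶ pullback s g) (i j : ι) (h : (⊤ : T'.Opens) ≤ l ⁻¹ᵁ O i)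
      (h' : (⊤ : T'.Opens) ≤ l' ⁻¹ᵁ O j), l ≫ pullback.fst s g = l' ≫ pullback.fst s g →
        F T' l i h = F T' l' j h') :
    ∃ a : GU T, ∀ (T' : Scheme.{u}) (l : T' ⟶ pullback s g) (i : ι) (h : (⊤ : T'.Opens) ≤ l ⁻¹ᵁ O i),
      pull (l ≫ pullback.fst s g) a = F T' l i h := by
  haveI : Flat (pullback.fst s g) := MorphismProperty.pullback_fst _ _ ‹_›
  haveI : Surjective (pullback.fst s g) := MorphismProperty.pullback_fst _ _ ‹_›
  haveI : QuasiCompact (pullback.fst s g) := MorphismProperty.pullback_fst _ _ ‹_›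
  obtain ⟨y, hy⟩ := exists_unit O hO F hnat fun T' l i j h h' => hinv T' l l i j h h' rfl
  obtain ⟨a, ha⟩ := exists_unit_desc (pullback.fst s g) y fun T' l l' hl => by
    refine eq_of_cover_units (fun p : ι × ι => l ⁻¹ᵁ O p.1 ⊓ l' ⁻¹ᵁ O p.2)
      (fun x => ⟨((hO (l x)).choose, (hO (l' x)).choose), (hO (l x)).choose_spec, (hO (l' x)).choose_spec⟩)
      fun p => ?_
    rw [← pull_comp, ← pull_comp,
      hy _ _ p.1 (fun (x : (l ⁻¹ᵁ O p.1 ⊓ l' ⁻¹ᵁ O p.2 : T'.Opens).toScheme) _ => x.2.1),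
      hy _ _ p.2 (fun (x : (l ⁻¹ᵁ O p.1 ⊓ l' ⁻¹ᵁ O p.2 : T'.Opens).toScheme) _ => x.2.2)]
    exact hinv _ _ _ p.1 p.2 _ _ (by rw [Category.assoc, Category.assoc, hl])
  exact ⟨a, fun T' l i h => by rw [pull_comp, ha, hy T' l i h]⟩

variable {D : LineData P} {q : P ⟶ X} (G : Glue D q) [IsAffine W]

set_option maxHeartbeats 1000000 in
-- long proof
/-- An invariant frame exists near every point of an affine open with a framed cover. -/
theorem exists_invFrame (hV₀ : IsAffineOpen V₀) (w : W ⟶ P) (hw : w ≫ q = g ≫ V₀.ι) (τ : Frame D w)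
    (x : X) (hx : x ∈ V₀) : ∃ Z : InvFrame G, x ∈ Z.V ∧ Z.V ≤ V₀ := by
  haveI : IsAffine V₀.toScheme := hV₀
  have hwq : ∀ {T : Scheme.{u}} (t t' : T ⟶ W), t ≫ g = t' ≫ g → (t ≫ w) ≫ q = (t' ≫ w) ≫ q :=
    fun {T} t t' h => by rw [Category.assoc, Category.assoc, hw, reassoc_of% h]
  -- the cocycle on the cover
  let O : D.J × D.J → (pullback g g).Opens := fun p =>
    (pullback.fst g g ≫ w) ⁻¹ᵁ D.W p.1 ⊓ (pullback.snd g g ≫ w) ⁻¹ᵁ D.W p.2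
  have hO : ∀ x, ∃ p, x ∈ O p := fun x =>
    ⟨((D.cover ((pullback.fst g g ≫ w) x)).choose, (D.cover ((pullback.snd g g ≫ w) x)).choose),
      (D.cover _).choose_spec, (D.cover _).choose_spec⟩
  obtain ⟨c, hc⟩ := exists_unit O hO
    (fun T l p h => τ.τ (l ≫ pullback.fst g g) p.1 (by rw [Category.assoc]; exact fun x _ => (h (x := x) trivial).1) *
      (G.θ ((l ≫ pullback.fst g g) ≫ w) ((l ≫ pullback.snd g g) ≫ w)
          (hwq _ _ (by rw [Category.assoc, Category.assoc, pullback.condition])) p.1 p.2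
          (by rw [Category.assoc]; exact fun x _ => (h (x := x) trivial).1)
          (by rw [Category.assoc]; exact fun x _ => (h (x := x) trivial).2) *
        τ.τ (l ≫ pullback.snd g g) p.2 (by rw [Category.assoc]; exact fun x _ => (h (x := x) trivial).2))⁻¹)
    (fun T' T m l p h => by
      rw [map_mul, map_inv, map_mul, τ.τ_nat m _ _ (Category.assoc _ _ _).symm, τ.τ_nat m _ _ (Category.assoc _ _ _).symm,
        G.θ_nat m ((l ≫ pullback.fst g g) ≫ w) ((l ≫ pullback.snd g g) ≫ w)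
          (hwq _ _ (by rw [Category.assoc, Category.assoc, pullback.condition]))
          (((m ≫ l) ≫ pullback.fst g g) ≫ w) (((m ≫ l) ≫ pullback.snd g g) ≫ w)
          (by simp only [Category.assoc]) (by simp only [Category.assoc])])
    (fun T l p p' h h' => by
      have hh := hwq (l ≫ pullback.fst g g) (l ≫ pullback.snd g g)
        (by rw [Category.assoc, Category.assoc, pullback.condition])
      have a₁ : (⊤ : T.Opens) ≤ ((l ≫ pullback.fst g g) ≫ w) ⁻¹ᵁ D.W p.1 := by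
        rw [Category.assoc]; exact fun x _ => (h (x := x) trivial).1
      have a₁' : (⊤ : T.Opens) ≤ ((l ≫ pullback.fst g g) ≫ w) ⁻¹ᵁ D.W p'.1 := by
        rw [Category.assoc]; exact fun x _ => (h' (x := x) trivial).1
      have a₂ : (⊤ : T.Opens) ≤ ((l ≫ pullback.snd g g) ≫ w) ⁻¹ᵁ D.W p.2 := by
        rw [Category.assoc]; exact fun x _ => (h (x := x) trivial).2
      have a₂' : (⊤ : T.Opens) ≤ ((l ≫ pullback.snd g g) ≫ w) ⁻¹ᵁ D.W p'.2 := by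
        rw [Category.assoc]; exact fun x _ => (h' (x := x) trivial).2
      rw [τ.trans _ p.1 p'.1 a₁ a₁', τ.trans _ p.2 p'.2 a₂ a₂', ← mul_assoc (G.θ _ _ hh p.1 p.2 a₁ a₂),
        G.right _ _ hh p.1 p.2 p'.2 a₁ a₂ a₂', ← G.left _ _ hh p.1 p'.1 p'.2 a₁ a₁' a₂', ← div_eq_mul_inv, ← div_eq_mul_inv, mul_assoc (D.g _ _ _ _ _) (G.θ _ _ _ _ _ _ _) _,
        mul_div_mul_left_eq_div])
  -- the defining relation
  have hrel : ∀ {T : Scheme.{u}} (t₁ t₂ : T ⟶ W) (h : t₁ ≫ g = t₂ ≫ g) (i j : D.J)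
      (hi : (⊤ : T.Opens) ≤ (t₁ ≫ w) ⁻¹ᵁ D.W i) (hj : (⊤ : T.Opens) ≤ (t₂ ≫ w) ⁻¹ᵁ D.W j),
      τ.τ t₁ i hi = pull (pullback.lift t₁ t₂ h) c * (G.θ _ _ (hwq t₁ t₂ h) i j hi hj * τ.τ t₂ j hj) := by
    intro T t₁ t₂ h i j hi hj
    have hl : (⊤ : T.Opens) ≤ pullback.lift t₁ t₂ h ⁻¹ᵁ O (i, j) := fun x _ => by
      have h₁ := hi (x := x) trivial
      have h₂ := hj (x := x) trivial
      refine ⟨?_, ?_⟩
      · change (pullback.lift t₁ t₂ h ≫ pullback.fst g g ≫ w) x ∈ D.W i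
        rw [pullback.lift_fst_assoc]; exact h₁
      · change (pullback.lift t₁ t₂ h ≫ pullback.snd g g ≫ w) x ∈ D.W j
        rw [pullback.lift_snd_assoc]; exact h₂
    rw [hc T _ (i, j) hl]
    simp only [pullback.lift_fst, pullback.lift_snd, inv_mul_cancel_right]
  have hcoc : IsCocycle g (c : Γ(pullback g g, ⊤)) := by
    intro T t₁ t₂ t₃ h₁₂ h₂₃
    refine congrArg Units.val (?_ : pull (pullback.lift t₁ t₂ h₁₂) c * pull (pullback.lift t₂ t₃ h₂₃) c =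
      pull (pullback.lift t₁ t₃ (h₁₂.trans h₂₃)) c)
    refine eq_of_cover_units
      (fun p : D.J × D.J × D.J => (t₁ ≫ w) ⁻¹ᵁ D.W p.1 ⊓ ((t₂ ≫ w) ⁻¹ᵁ D.W p.2.1 ⊓ (t₃ ≫ w) ⁻¹ᵁ D.W p.2.2))
      (fun x => ⟨((D.cover ((t₁ ≫ w) x)).choose, (D.cover ((t₂ ≫ w) x)).choose, (D.cover ((t₃ ≫ w) x)).choose),
        (D.cover _).choose_spec, (D.cover _).choose_spec, (D.cover _).choose_spec⟩) fun p => ?_
    let N := (t₁ ≫ w) ⁻¹ᵁ D.W p.1 ⊓ ((t₂ ≫ w) ⁻¹ᵁ D.W p.2.1 ⊓ (t₃ ≫ w) ⁻¹ᵁ D.W p.2.2)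
    have a₁ : (⊤ : N.toScheme.Opens) ≤ ((N.ι ≫ t₁) ≫ w) ⁻¹ᵁ D.W p.1 := fun x _ => x.2.1
    have a₂ : (⊤ : N.toScheme.Opens) ≤ ((N.ι ≫ t₂) ≫ w) ⁻¹ᵁ D.W p.2.1 := fun x _ => x.2.2.1
    have a₃ : (⊤ : N.toScheme.Opens) ≤ ((N.ι ≫ t₃) ≫ w) ⁻¹ᵁ D.W p.2.2 := fun x _ => x.2.2.2
    have e : ∀ (s s' : T ⟶ W) (h : s ≫ g = s' ≫ g),
        pullback.lift (N.ι ≫ s) (N.ι ≫ s') (by rw [Category.assoc, Category.assoc, h]) =
          N.ι ≫ pullback.lift s s' h := fun s s' h => by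
      apply pullback.hom_ext
      · exact (pullback.lift_fst _ _ _).trans ((congrArg (N.ι ≫ ·) (pullback.lift_fst s s' h).symm).trans
          (Category.assoc _ _ _).symm)
      · exact (pullback.lift_snd _ _ _).trans ((congrArg (N.ι ≫ ·) (pullback.lift_snd s s' h).symm).trans
          (Category.assoc _ _ _).symm)
    have r₁₂ := hrel (N.ι ≫ t₁) (N.ι ≫ t₂) (by rw [Category.assoc, Category.assoc, h₁₂]) _ _ a₁ a₂
    have r₂₃ := hrel (N.ι ≫ t₂) (N.ι ≫ t₃) (by rw [Category.assoc, Category.assoc, h₂₃]) _ _ a₂ a₃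
    have r₁₃ := hrel (N.ι ≫ t₁) (N.ι ≫ t₃) (by rw [Category.assoc, Category.assoc, h₁₂.trans h₂₃]) _ _ a₁ a₃
    rw [e _ _ h₁₂, pull_comp, r₂₃, e _ _ h₂₃, pull_comp, mul_left_comm (G.θ _ _ _ _ _ _ _) (pull N.ι _),
      ← mul_assoc (G.θ _ _ _ _ _ _ _), G.mul, ← mul_assoc] at r₁₂
    rw [e _ _ (h₁₂.trans h₂₃), pull_comp] at r₁₃
    rw [map_mul]
    exact mul_right_cancel (r₁₂.symm.trans r₁₃)
  obtain ⟨D₀, hxD, b, hbD, hb⟩ := exists_coboundary_scheme g (c : Γ(pullback g g, ⊤)) c.isUnit hcoc ⟨x, hx⟩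
  have hbu : ∀ {T : Scheme.{u}} (t : T ⟶ W), (⊤ : T.Opens) ≤ (t ≫ g) ⁻¹ᵁ D₀ → IsUnit (t.appTop b) := fun {T} t ht => by
    have h₁ : T.basicOpen (t.appTop b) = t ⁻¹ᵁ W.basicOpen b := (Scheme.preimage_basicOpen t b).symm
    refine T.toRingedSpace.isUnit_of_isUnit_germ ⊤ _ fun z hz => (T.mem_basicOpen _ z hz).1 ?_
    rw [h₁]
    exact hbD (ht hz)
  let bu : ∀ {T : Scheme.{u}} (t : T ⟶ W), (⊤ : T.Opens) ≤ (t ≫ g) ⁻¹ᵁ D₀ → GU T := fun t ht => (hbu t ht).unit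
  have hbn : ∀ {T' T : Scheme.{u}} (m : T' ⟶ T) (t : T ⟶ W) (t' : T' ⟶ W) (_ : m ≫ t = t')
      (h : (⊤ : T.Opens) ≤ (t ≫ g) ⁻¹ᵁ D₀) (h' : (⊤ : T'.Opens) ≤ (t' ≫ g) ⁻¹ᵁ D₀),
      bu t' h' = pull m (bu t h) := fun {T' T} m t t' e h h' => by
    subst e
    exact Units.ext (ConcreteCategory.congr_hom (Scheme.Hom.comp_appTop m t) b)
  have hbrel : ∀ {T : Scheme.{u}} (t t' : T ⟶ W) (h : t ≫ g = t' ≫ g) (ht : (⊤ : T.Opens) ≤ (t ≫ g) ⁻¹ᵁ D₀)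
      (ht' : (⊤ : T.Opens) ≤ (t' ≫ g) ⁻¹ᵁ D₀), bu t ht = pull (pullback.lift t t' h) c * bu t' ht' :=
    fun {T} t t' h ht ht' => Units.ext (hb T t t' h)
  let V := V₀.ι ''ᵁ D₀
  have hVle : V ≤ V₀ := V₀.ι_image_le D₀
  let s : ∀ {T : Scheme.{u}} (k : T ⟶ P), (⊤ : T.Opens) ≤ (k ≫ q) ⁻¹ᵁ V → (T ⟶ V₀.toScheme) := fun {T} k hk =>
    IsOpenImmersion.lift V₀.ι (k ≫ q) (by
      rintro _ ⟨z, rfl⟩
      rw [Scheme.Opens.range_ι]
      exact hVle (hk trivial))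
  have hs : ∀ {T : Scheme.{u}} (k : T ⟶ P) (hk : (⊤ : T.Opens) ≤ (k ≫ q) ⁻¹ᵁ V), s k hk ≫ V₀.ι = k ≫ q :=
    fun {T} k hk => IsOpenImmersion.lift_fac _ _ _
  have hsD : ∀ {T : Scheme.{u}} (k : T ⟶ P) (hk : (⊤ : T.Opens) ≤ (k ≫ q) ⁻¹ᵁ V),
      (⊤ : T.Opens) ≤ s k hk ⁻¹ᵁ D₀ := fun {T} k hk z hz => by
    obtain ⟨d, hd, hd'⟩ := hk hz
    have : s k hk z = d := V₀.ι.isOpenEmbedding.injective (by
      rw [← Scheme.Hom.comp_apply, hs k hk]
      exact hd'.symm)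
    change s k hk z ∈ D₀
    rw [this]; exact hd
  -- conditions on points of the cover
  have hkt : ∀ {T : Scheme.{u}} (k : T ⟶ P) (hk : (⊤ : T.Opens) ≤ (k ≫ q) ⁻¹ᵁ V) {T' : Scheme.{u}}
      (m : T' ⟶ T) (t : T' ⟶ W), m ≫ s k hk = t ≫ g →
        (m ≫ k) ≫ q = (t ≫ w) ≫ q ∧ (⊤ : T'.Opens) ≤ (t ≫ g) ⁻¹ᵁ D₀ := fun {T} k hk {T'} m t e =>
    ⟨by rw [Category.assoc, Category.assoc, ← hs k hk, hw, reassoc_of% e],
      fun z _ => by rw [← e]; exact hsD k hk trivial⟩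
  have hz : ∀ {T : Scheme.{u}} (k : T ⟶ P) (i : D.J) (hV : (⊤ : T.Opens) ≤ (k ≫ q) ⁻¹ᵁ V)
      (hi : (⊤ : T.Opens) ≤ k ⁻¹ᵁ D.W i), ∃ z : GU T, ∀ (T' : Scheme.{u}) (m : T' ⟶ T) (t : T' ⟶ W)
      (e : m ≫ s k hV = t ≫ g) (j : D.J) (hj : (⊤ : T'.Opens) ≤ (t ≫ w) ⁻¹ᵁ D.W j),
      pull m z = G.θ (m ≫ k) (t ≫ w) (hkt k hV m t e).1 i j (lands_comp m hi) hj * τ.τ t j hj *
        (bu t (hkt k hV m t e).2)⁻¹ := by
    intro T k i hV hi
    have e₀ : pullback.fst (s k hV) g ≫ s k hV = pullback.snd (s k hV) g ≫ g := pullback.condition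
    have el : ∀ {T' : Scheme.{u}} (l : T' ⟶ pullback (s k hV) g),
        (l ≫ pullback.fst (s k hV) g) ≫ s k hV = (l ≫ pullback.snd (s k hV) g) ≫ g := fun l => by
      rw [Category.assoc, Category.assoc, e₀]
    obtain ⟨z, hz⟩ := exists_pr_desc g (s k hV) (fun j => (pullback.snd (s k hV) g ≫ w) ⁻¹ᵁ D.W j)
      (fun y => D.cover _)
      (fun T' l j h => G.θ ((l ≫ pullback.fst _ _) ≫ k) ((l ≫ pullback.snd _ _) ≫ w) (hkt k hV _ _ (el l)).1 i j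
          (lands_comp _ hi) (by rw [Category.assoc]; exact h) *
        τ.τ (l ≫ pullback.snd _ _) j (by rw [Category.assoc]; exact h) * (bu _ (hkt k hV _ _ (el l)).2)⁻¹)
      (fun T'' T' m l j h => by
        rw [map_mul, map_mul, map_inv, τ.τ_nat m _ _ (Category.assoc _ _ _).symm,
          G.θ_nat m ((l ≫ pullback.fst (s k hV) g) ≫ k) ((l ≫ pullback.snd (s k hV) g) ≫ w) (hkt k hV _ _ (el l)).1
            (((m ≫ l) ≫ pullback.fst (s k hV) g) ≫ k) (((m ≫ l) ≫ pullback.snd (s k hV) g) ≫ w)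
            (by simp only [Category.assoc]) (by simp only [Category.assoc]),
          hbn m _ _ (Category.assoc m l (pullback.snd (s k hV) g)).symm (hkt k hV _ _ (el l)).2
            (hkt k hV _ _ (el (m ≫ l))).2])
      (fun T' l l' j j' h h' hll => by
        have ht : (l ≫ pullback.snd (s k hV) g) ≫ g = (l' ≫ pullback.snd (s k hV) g) ≫ g := by
          rw [← el l, ← el l', hll]
        have a₁ : (⊤ : T'.Opens) ≤ ((l ≫ pullback.snd (s k hV) g) ≫ w) ⁻¹ᵁ D.W j := by rw [Category.assoc]; exact h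
        have a₂ : (⊤ : T'.Opens) ≤ ((l' ≫ pullback.snd (s k hV) g) ≫ w) ⁻¹ᵁ D.W j' := by rw [Category.assoc]; exact h'
        rw [hrel _ _ ht j j' a₁ a₂, hbrel _ _ ht (hkt k hV _ _ (el l)).2 (hkt k hV _ _ (el l')).2, mul_inv, mul_left_comm
          (G.θ _ _ _ i j _ _) (pull _ c), ← mul_assoc (G.θ _ _ _ i j _ _), G.mul]
        simp only [hll]
        rw [mul_mul_mul_comm, mul_inv_cancel, one_mul])
    refine ⟨z, fun T' m t e j hj => ?_⟩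
    have := hz T' (pullback.lift m t e) j (fun y hy => by
      change (pullback.lift m t e ≫ pullback.snd (s k hV) g ≫ w) y ∈ D.W j
      rw [pullback.lift_snd_assoc]
      exact hj hy)
    simp only [pullback.lift_fst, pullback.lift_snd] at this
    exact this
  choose z hz using @hz
  refine ⟨⟨V, @z, ?_, ?_⟩, ⟨⟨x, hx⟩, hxD, rfl⟩, hVle⟩
  · intro T' T m k k' e i hV hi hV' hi'
    refine eq_of_pr g (s k' hV') ?_
    refine eq_of_cover_units (fun j => (pullback.snd (s k' hV') g ≫ w) ⁻¹ᵁ D.W j) (fun y => D.cover _) fun j => ?_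
    let N := (pullback.snd (s k' hV') g ≫ w) ⁻¹ᵁ D.W j
    have es : s k' hV' = m ≫ s k hV := by
      rw [← cancel_mono V₀.ι, hs k' hV', Category.assoc, hs k hV, ← e, Category.assoc]
    have e₁ : (N.ι ≫ pullback.fst (s k' hV') g) ≫ s k' hV' = (N.ι ≫ pullback.snd (s k' hV') g) ≫ g := by
      rw [Category.assoc, Category.assoc, pullback.condition]
    have e₂ : (N.ι ≫ pullback.fst (s k' hV') g ≫ m) ≫ s k hV = (N.ι ≫ pullback.snd (s k' hV') g) ≫ g := by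
      exact (Category.assoc _ _ _).trans ((congrArg (N.ι ≫ ·) (Category.assoc _ _ _)).trans
        ((congrArg (fun z => N.ι ≫ pullback.fst (s k' hV') g ≫ z) es.symm).trans
          ((Category.assoc _ _ _).symm.trans e₁)))
    have hj : (⊤ : N.toScheme.Opens) ≤ ((N.ι ≫ pullback.snd (s k' hV') g) ≫ w) ⁻¹ᵁ D.W j := fun y _ => y.2
    rw [← pull_comp, ← pull_comp, ← pull_comp, Category.assoc, hz k' i hV' hi' _ _ _ e₁ j hj,
      hz k i hV hi _ _ _ e₂ j hj]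
    simp only [← e, Category.assoc]
  · intro T k₁ k₂ h i j hV₁ hV₂ hi hj
    refine eq_of_pr g (s k₁ hV₁) ?_
    refine eq_of_cover_units (fun l => (pullback.snd (s k₁ hV₁) g ≫ w) ⁻¹ᵁ D.W l) (fun y => D.cover _) fun l => ?_
    let N := (pullback.snd (s k₁ hV₁) g ≫ w) ⁻¹ᵁ D.W l
    have es : s k₂ hV₂ = s k₁ hV₁ := by rw [← cancel_mono V₀.ι, hs k₂ hV₂, hs k₁ hV₁, h]
    let m := N.ι ≫ pullback.fst (s k₁ hV₁) g
    have e₁ : m ≫ s k₁ hV₁ = (N.ι ≫ pullback.snd (s k₁ hV₁) g) ≫ g := by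
      rw [Category.assoc, Category.assoc, pullback.condition]
    have e₂ : m ≫ s k₂ hV₂ = (N.ι ≫ pullback.snd (s k₁ hV₁) g) ≫ g := by rw [es]; exact e₁
    have hl : (⊤ : N.toScheme.Opens) ≤ ((N.ι ≫ pullback.snd (s k₁ hV₁) g) ≫ w) ⁻¹ᵁ D.W l := fun y _ => y.2
    rw [map_mul, map_mul, ← pull_comp, ← pull_comp, ← pull_comp, hz k₁ i hV₁ hi _ m _ e₁ l hl,
      hz k₂ j hV₂ hj _ m _ e₂ l hl, ← G.θ_nat m k₁ k₂ h _ _ rfl rfl (by simp only [Category.assoc, h, m]) i j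
        hi hj (lands_comp m hi) (lands_comp m hj), ← mul_assoc, ← mul_assoc, G.mul]

set_option maxHeartbeats 400000 in
-- long proof
/-- The transition unit of two invariant frames. -/
theorem exists_transition (w : W ⟶ P) (hw : w ≫ q = g ≫ V₀.ι) (Z Z' : InvFrame G) (hle : Z.V ≤ V₀) :
    ∃ a : GU (Z.V ⊓ Z'.V : X.Opens).toScheme, ∀ {T : Scheme.{u}} (k : T ⟶ P) (i : D.J)
      (l : T ⟶ (Z.V ⊓ Z'.V : X.Opens).toScheme) (hl : l ≫ (Z.V ⊓ Z'.V).ι = k ≫ q)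
      (hi : (⊤ : T.Opens) ≤ k ⁻¹ᵁ D.W i) (hV : (⊤ : T.Opens) ≤ (k ≫ q) ⁻¹ᵁ Z.V)
      (hV' : (⊤ : T.Opens) ≤ (k ≫ q) ⁻¹ᵁ Z'.V),
      Z.z k i hV hi = pull l a * Z'.z k i hV' hi := by
  let N := Z.V ⊓ Z'.V
  let s : N.toScheme ⟶ V₀.toScheme := X.homOfLE (inf_le_left.trans hle)
  have hs : s ≫ V₀.ι = N.ι := X.homOfLE_ι _
  have hk : ∀ {T' : Scheme.{u}} (l : T' ⟶ pullback s g),
      ((l ≫ pullback.snd s g) ≫ w) ≫ q = (l ≫ pullback.fst s g) ≫ N.ι := fun {T'} l => by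
    simp only [Category.assoc, hw]
    rw [← pullback.condition_assoc, hs]
  have hkN : ∀ {T' : Scheme.{u}} (l : T' ⟶ pullback s g),
      (⊤ : T'.Opens) ≤ (((l ≫ pullback.snd s g) ≫ w) ≫ q) ⁻¹ᵁ N := fun {T'} l y _ => by
    rw [hk]; exact ((l ≫ pullback.fst s g) y).2
  obtain ⟨a, ha⟩ := exists_pr_desc g s (fun i => (pullback.snd s g ≫ w) ⁻¹ᵁ D.W i) (fun y => D.cover _)
    (fun T' l i h => Z.z ((l ≫ pullback.snd s g) ≫ w) i (fun y hy => (hkN l hy).1)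
        (by rw [Category.assoc]; exact h) *
      (Z'.z ((l ≫ pullback.snd s g) ≫ w) i (fun y hy => (hkN l hy).2) (by rw [Category.assoc]; exact h))⁻¹)
    (fun T'' T' m l i h => by
      rw [map_mul, map_inv,
        Z.z_nat m ((l ≫ pullback.snd s g) ≫ w) (((m ≫ l) ≫ pullback.snd s g) ≫ w) (by simp only [Category.assoc]),
        Z'.z_nat m ((l ≫ pullback.snd s g) ≫ w) (((m ≫ l) ≫ pullback.snd s g) ≫ w) (by simp only [Category.assoc])])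
    (fun T' l l' i j h h' hll => by
      have e : ((l ≫ pullback.snd s g) ≫ w) ≫ q = ((l' ≫ pullback.snd s g) ≫ w) ≫ q := by rw [hk, hk, hll]
      rw [Z.equiv _ _ e i j _ (fun y hy => (hkN l' hy).1) _ (by rw [Category.assoc]; exact h'),
        Z'.equiv _ _ e i j _ (fun y hy => (hkN l' hy).2) _ (by rw [Category.assoc]; exact h'),
        mul_inv, mul_mul_mul_comm, mul_inv_cancel, one_mul])
  refine ⟨a, fun {T} k i l hl hi hV hV' => ?_⟩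
  refine eq_of_pr g (l ≫ s) ?_
  refine eq_of_cover_units (fun j => (pullback.snd (l ≫ s) g ≫ w) ⁻¹ᵁ D.W j) (fun y => D.cover _) fun j => ?_
  let M := (pullback.snd (l ≫ s) g ≫ w) ⁻¹ᵁ D.W j
  let n : M.toScheme ⟶ pullback s g :=
    pullback.lift (M.ι ≫ pullback.fst (l ≫ s) g ≫ l) (M.ι ≫ pullback.snd (l ≫ s) g)
      (by simp only [Category.assoc]; rw [pullback.condition])
  have hn : (⊤ : M.toScheme.Opens) ≤ n ⁻¹ᵁ (pullback.snd s g ≫ w) ⁻¹ᵁ D.W j := fun y _ => by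
    change (n ≫ pullback.snd s g ≫ w) y ∈ D.W j
    rw [pullback.lift_snd_assoc, Category.assoc]
    exact y.2
  let m := M.ι ≫ pullback.fst (l ≫ s) g
  have ha' := ha _ n j hn
  have hnf : n ≫ pullback.fst s g = m ≫ l := (pullback.lift_fst _ _ _).trans (Category.assoc _ _ _).symm
  have hkk : (m ≫ k) ≫ q = ((n ≫ pullback.snd s g) ≫ w) ≫ q := by
    rw [hk, hnf]; simp only [Category.assoc, hl, m, N]
  rw [hnf, pull_comp] at ha'
  rw [map_mul, map_mul, ← pull_comp, ← pull_comp, ← pull_comp, ← pull_comp,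
    ← Z.z_nat m k _ rfl i hV hi (fun y _ => hV trivial) (lands_comp m hi),
    ← Z'.z_nat m k _ rfl i hV' hi (fun y _ => hV' trivial) (lands_comp m hi),
    Z.equiv _ _ hkk i j _ (fun y hy => (hkN n hy).1) _ (by rw [Category.assoc]; exact hn),
    Z'.equiv _ _ hkk i j _ (fun y hy => (hkN n hy).2) _ (by rw [Category.assoc]; exact hn),
    pull_comp, ha', mul_left_comm, inv_mul_cancel_right]

end Groth.Agent.H12Pic.InvDesc.Eff
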