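import Groth.Agent.H12Pic.InvDesc.Eff.Frames
import Groth.Agent.H7Flat.LineCocycle
import Groth.Agent.H12Pic.InvDesc.Cover

/-!
# The descended line bundle
-/

set_option autoImplicit false
set_option linter.style.haveILetI false
set_option linter.unusedSectionVars false

noncomputable section

universe u

open CategoryTheory CategoryTheory.Limits AlgebraicGeometry TopologicalSpace Opposite

namespace Groth.Agent.H12Pic.InvDesc.Eff

open Groth.Agent.H11Tilde

variable {B : Scheme.{u}}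

/-- A unit on an open as a unit of its sections. -/
theorem exists_valU_eq (O : B.Opens) (a : GU O.toScheme) : ∃ b : Γ(B, O)ˣ, valU O.ι (lands_ι O) b = a := by
  have hbij := bijective_ι_appLE O (le_ι_preimage O)
  obtain ⟨x, hx⟩ := hbij.2 (a : Γ(O.toScheme, ⊤))
  obtain ⟨y, hy⟩ := hbij.2 ((a⁻¹ : GU O.toScheme) : Γ(O.toScheme, ⊤))
  have hxy : x * y = 1 := hbij.1 (by rw [map_mul, map_one, hx, hy, Units.mul_inv])
  exact ⟨(unit_of_mul hxy).unit, Units.ext hx⟩

/-- Units on an open agree if they do on the open as a scheme. -/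
theorem valU_injective (O : B.Opens) {b b' : Γ(B, O)ˣ}
    (h : valU O.ι (lands_ι O) b = valU O.ι (lands_ι O) b') : b = b' :=
  Units.ext ((bijective_ι_appLE O (le_ι_preimage O)).1 (congrArg Units.val h))

/-- Values of units on an open come from the open as a scheme. -/
theorem valU_eq_pull {T : Scheme.{u}} {O : B.Opens} (k : T ⟶ B) (h : (⊤ : T.Opens) ≤ k ⁻¹ᵁ O) (l : T ⟶ O.toScheme)
    (hl : l ≫ O.ι = k) (b : Γ(B, O)ˣ) : valU k h b = pull l (valU O.ι (lands_ι O) b) := by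
  subst hl
  exact valU_comp l O.ι (lands_ι O) b

/-- Values commute with restriction. -/
theorem valU_res {T : Scheme.{u}} {O O' : B.Opens} (hO : O' ≤ O) (k : T ⟶ B) (h : (⊤ : T.Opens) ≤ k ⁻¹ᵁ O')
    (b : Γ(B, O)ˣ) :
    valU k h (Units.map (B.presheaf.map (homOfLE hO).op).hom.toMonoidHom b) =
      valU k (h.trans (k.preimage_mono hO)) b :=
  Units.ext (appLE_res k hO h (b : Γ(B, O)))

/-- A lift to an open. -/
def toOpen {T : Scheme.{u}} (k : T ⟶ B) {O : B.Opens} (h : (⊤ : T.Opens) ≤ k ⁻¹ᵁ O) : T ⟶ O.toScheme :=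
  IsOpenImmersion.lift O.ι k (by
    rintro _ ⟨x, rfl⟩
    rw [Scheme.Opens.range_ι]
    exact h trivial)

theorem toOpen_ι {T : Scheme.{u}} (k : T ⟶ B) {O : B.Opens} (h : (⊤ : T.Opens) ≤ k ⁻¹ᵁ O) :
    toOpen k h ≫ O.ι = k := IsOpenImmersion.lift_fac _ _ _

section Module

variable {P : Scheme.{u}} (L : P.Modules)

/-- The transition units of a system of generators of an invertible module. -/
structure GenSys where
  J : Type u
  W : J → P.Opens
  cover : ∀ x, ∃ i, x ∈ W i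
  e : ∀ i, Γ(L, W i)
  gen : ∀ i, IsGen L (e i)
  a : ∀ i j, Γ(P, W i ⊓ W j)ˣ
  ha : ∀ i j, L.presheaf.map (homOfLE inf_le_left).op (e i) =
    (a i j : Γ(P, W i ⊓ W j)) • L.presheaf.map (homOfLE inf_le_right).op (e j)

theorem exists_genSys (hL : PicF.IsInvertible L) : Nonempty (GenSys L) := by
  choose W e hW he using H11Ample.exists_gen hL
  have ha : ∀ i j, ∃ a : Γ(P, W i ⊓ W j)ˣ, L.presheaf.map (homOfLE inf_le_left).op (e i) =
      (a : Γ(P, W i ⊓ W j)) • L.presheaf.map (homOfLE inf_le_right).op (e j) := fun i j => by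
    obtain ⟨a, ha⟩ := H11Ample.transition (ei := e i) (he j)
    obtain ⟨b, hb⟩ := H11Ample.exists_coeff ((he i).res (inf_le_left : W i ⊓ W j ≤ W i))
      (L.presheaf.map (homOfLE (inf_le_right : W i ⊓ W j ≤ W j)).op (e j))
    have hab : a * b = 1 := by
      have := ha
      rw [hb, smul_smul] at this
      refine ((he i).bijective inf_le_left).1 ?_
      change (a * b) • _ = (1 : Γ(P, W i ⊓ W j)) • _
      rw [one_smul, ← this]
    exact ⟨(unit_of_mul hab).unit, ha⟩
  choose a ha using ha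
  exact ⟨⟨P, W, fun x => ⟨x, hW x⟩, e, he, a, ha⟩⟩

variable {L}

theorem GenSys.a_mul (S : GenSys L) (i j l : S.J) (N : P.Opens) (hi : N ≤ S.W i) (hj : N ≤ S.W j) (hl : N ≤ S.W l) :
    P.presheaf.map (homOfLE (le_inf hi hj)).op (S.a i j : Γ(P, S.W i ⊓ S.W j)) *
        P.presheaf.map (homOfLE (le_inf hj hl)).op (S.a j l : Γ(P, S.W j ⊓ S.W l)) =
      P.presheaf.map (homOfLE (le_inf hi hl)).op (S.a i l : Γ(P, S.W i ⊓ S.W l)) := by
  have key : ∀ p r (hp : N ≤ S.W p) (hr : N ≤ S.W r), L.presheaf.map (homOfLE hp).op (S.e p) =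
      P.presheaf.map (homOfLE (le_inf hp hr)).op (S.a p r : Γ(P, S.W p ⊓ S.W r)) •
        L.presheaf.map (homOfLE hr).op (S.e r) := fun p r hp hr => by
    have := congrArg (L.presheaf.map (homOfLE (le_inf hp hr)).op) (S.ha p r)
    rwa [Scheme.Modules.map_smul, H10Coh.mres_mres, H10Coh.mres_mres] at this
  have h₁ := key i j hi hj
  rw [key j l hj hl, smul_smul, key i l hi hl] at h₁
  exact ((S.gen l).bijective hl).1 h₁.symm

/-- The line data of a system of generators. -/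
def GenSys.data (S : GenSys L) : LineData P where
  J := S.J
  W := S.W
  cover := S.cover
  g k i j hi hj := valU (O := S.W i ⊓ S.W j) k (fun x hx => ⟨hi hx, hj hx⟩) (S.a i j)
  g_nat m k k' e i j hi hj hi' hj' := by
    subst e
    exact valU_comp m k _ _
  g_mul {T} k i j l hi hj hl := by
    let N := S.W i ⊓ (S.W j ⊓ S.W l)
    have hN : (⊤ : T.Opens) ≤ k ⁻¹ᵁ N := fun x hx => ⟨hi hx, hj hx, hl hx⟩
    have := congrArg (k.appLE N ⊤ hN) (S.a_mul i j l N inf_le_left (inf_le_right.trans inf_le_left)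
      (inf_le_right.trans inf_le_right))
    rw [map_mul, appLE_res, appLE_res, appLE_res] at this
    exact Units.ext this

end Module

variable {P X : Scheme.{u}} {L' : P.Modules} (S : GenSys L') (q : P ⟶ X)

set_option maxHeartbeats 1000000 in
-- long proof
/-- A line bundle with a descent datum descends if it has frames on flat covers of the base. -/
theorem exists_descended (G : Glue S.data q)
    (hcov : ∀ x : X, ∃ (V₀ : X.Opens) (_ : IsAffineOpen V₀) (_ : x ∈ V₀) (W : Scheme.{u}) (_ : IsAffine W)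
      (g : W ⟶ V₀.toScheme) (w : W ⟶ P), Flat g ∧ Surjective g ∧ w ≫ q = g ≫ V₀.ι ∧ Nonempty (Frame S.data w)) :
    ∃ L : X.Modules, PicF.IsInvertible L ∧ Nonempty ((Scheme.Modules.pullback q).obj L ≅ L') := by
  choose V₀ hV₀ hxV₀ W hW g w hg hgs hw τ using hcov
  haveI : ∀ x, IsAffine (V₀ x).toScheme := hV₀
  haveI := hW
  haveI := hg
  haveI := hgs
  choose Z hxZ hZle using fun x =>
    exists_invFrame (g x) G (hV₀ x) (w x) (hw x) (τ x).some x (hxV₀ x)
  choose c hc using fun x y => exists_transition (g x) G (w x) (hw x) (Z x) (Z y) (hZle x)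
  choose a ha using fun x y => exists_valU_eq ((Z x).V ⊓ (Z y).V) (c x y)
  have hG : ∀ (x y : X) {T : Scheme.{u}} (k : T ⟶ P) (i : S.J) (hi : (⊤ : T.Opens) ≤ k ⁻¹ᵁ S.W i)
      (hx : (⊤ : T.Opens) ≤ (k ≫ q) ⁻¹ᵁ (Z x).V) (hy : (⊤ : T.Opens) ≤ (k ≫ q) ⁻¹ᵁ (Z y).V),
      (Z x).z k i hx hi = valU (O := (Z x).V ⊓ (Z y).V) (k ≫ q) (fun z hz => ⟨hx hz, hy hz⟩) (a x y) *
          (Z y).z k i hy hi :=
    fun x y {T} k i hi hx hy => by
      have h : (⊤ : T.Opens) ≤ (k ≫ q) ⁻¹ᵁ ((Z x).V ⊓ (Z y).V) := fun z hz => ⟨hx hz, hy hz⟩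
      rw [valU_eq_pull (k ≫ q) h (toOpen (k ≫ q) h) (toOpen_ι _ h), ha]
      exact hc x y k i _ (toOpen_ι _ h) hi hx hy
  let D : H7Flat.LineCocycle.Data X :=
    { J := X
      V := fun x => (Z x).V
      g := fun x y => (a x y : Γ(X, _))
      isUnit := fun x y => (a x y).isUnit
      cover := fun x => ⟨x, hxZ x⟩
      cocycle := fun x y z N hx hy hz => by
        refine congrArg Units.val (?_ :
          Units.map (H7Flat.LineCocycle.rr (le_inf hx hy)).toMonoidHom (a x y) *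
            Units.map (H7Flat.LineCocycle.rr (le_inf hy hz)).toMonoidHom (a y z) =
          Units.map (H7Flat.LineCocycle.rr (le_inf hx hz)).toMonoidHom (a x z))
        refine valU_injective N ?_
        let s : N.toScheme ⟶ (V₀ x).toScheme := X.homOfLE (hx.trans (hZle x))
        refine eq_of_pr (g x) s ?_
        refine eq_of_cover_units (fun i => (pullback.snd s (g x) ≫ w x) ⁻¹ᵁ S.W i) (fun p => S.cover _) fun i => ?_
        let M := (pullback.snd s (g x) ≫ w x) ⁻¹ᵁ S.W i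
        let k : M.toScheme ⟶ P := M.ι ≫ pullback.snd s (g x) ≫ w x
        have hi : (⊤ : M.toScheme.Opens) ≤ k ⁻¹ᵁ S.W i := fun p _ => p.2
        have hkq : (M.ι ≫ pullback.fst s (g x)) ≫ N.ι = k ≫ q := by
          simp only [k, Category.assoc, hw x]
          rw [← pullback.condition_assoc, X.homOfLE_ι]
        have hk : ∀ {O : X.Opens}, N ≤ O → (⊤ : M.toScheme.Opens) ≤ (k ≫ q) ⁻¹ᵁ O := fun {O} hO p _ => by
          rw [← hkq]; exact hO ((M.ι ≫ pullback.fst s (g x)) p).2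
        have e : ∀ {O : X.Opens} (hO : N ≤ O) (b : Γ(X, O)ˣ),
            pull M.ι (pull (pullback.fst s (g x))
              (valU N.ι (lands_ι N) (Units.map (H7Flat.LineCocycle.rr hO).toMonoidHom b))) =
              valU (k ≫ q) (hk hO) b := fun {O} hO b => by
          rw [← pull_comp, ← valU_eq_pull (k ≫ q) (hk le_rfl) (M.ι ≫ pullback.fst s (g x)) hkq]
          exact valU_res hO (k ≫ q) (hk le_rfl) b
        simp only [valU, map_mul] at e ⊢
        rw [e, e, e]
        have h₁ := hG x y k i hi (hk hx) (hk hy)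
        rw [hG y z k i hi (hk hy) (hk hz), hG x z k i hi (hk hx) (hk hz), ← mul_assoc] at h₁
        exact (mul_right_cancel h₁).symm }
  refine ⟨H7Flat.LineCocycle.line D, H7Flat.LineCocycle.isInvertible_line D, ?_⟩
  let O : X × S.J → P.Opens := fun p => q ⁻¹ᵁ (Z p.1).V ⊓ S.W p.2
  have hOV : ∀ p, (⊤ : (O p).toScheme.Opens) ≤ ((O p).ι ≫ q) ⁻¹ᵁ (Z p.1).V := fun p x _ => x.2.1
  have hOW : ∀ p, (⊤ : (O p).toScheme.Opens) ≤ (O p).ι ⁻¹ᵁ S.W p.2 := fun p x _ => x.2.2
  choose γ hγ using fun p => exists_valU_eq (O p) ((Z p.1).z (O p).ι p.2 (hOV p) (hOW p))⁻¹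
  let eP : ∀ p, Γ((Scheme.Modules.pullback q).obj (H7Flat.LineCocycle.line D), O p) := fun p =>
    ((Scheme.Modules.pullback q).obj (H7Flat.LineCocycle.line D)).presheaf.map
      (homOfLE (inf_le_left : O p ≤ q ⁻¹ᵁ (Z p.1).V)).op
      (OmegaSh.pullSect q _ (Z p.1).V (H7Flat.LineCocycle.gen D p.1))
  obtain ⟨φ, -⟩ := H11Ample.exists_iso_of_gen O (fun x => ⟨(q x, (S.cover x).choose), hxZ (q x), (S.cover x).choose_spec⟩)
    eP (fun p => ((H7Flat.LineCocycle.isGen_gen D p.1).pullSect q).res _)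
    (fun p => (γ p : Γ(P, O p)) • L'.presheaf.map (homOfLE inf_le_right).op (S.e p.2))
    (fun p => H11Ample.isGen_res (S.gen p.2) _ (γ p).isUnit) (fun p r u hu => by
      let N := O p ⊓ O r
      have hpx : N ≤ q ⁻¹ᵁ (Z p.1).V := inf_le_left.trans inf_le_left
      have hrx : N ≤ q ⁻¹ᵁ (Z r.1).V := inf_le_right.trans inf_le_left
      have hpw : N ≤ S.W p.2 := inf_le_left.trans inf_le_right
      have hrw : N ≤ S.W r.2 := inf_le_right.trans inf_le_right
      -- the coefficient of the pulled back generators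
      have hq := congrArg (OmegaSh.pullSect q (H7Flat.LineCocycle.line D) _) (H7Flat.LineCocycle.gen_trans D r.1 p.1
        ((Z r.1).V ⊓ (Z p.1).V) inf_le_left inf_le_right)
      rw [OmegaSh.pullSect_smul, pullSect_res, pullSect_res] at hq
      have hq' := congrArg (((Scheme.Modules.pullback q).obj (H7Flat.LineCocycle.line D)).presheaf.map
        (homOfLE (le_inf hrx hpx : N ≤ q ⁻¹ᵁ ((Z r.1).V ⊓ (Z p.1).V))).op) hq
      erw [Scheme.Modules.map_smul, H10Coh.mres_mres, H10Coh.mres_mres] at hq'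
      have hu' : u = P.presheaf.map (homOfLE (le_inf hrx hpx)).op (q.app _
          (H7Flat.LineCocycle.rr (le_inf inf_le_left inf_le_right) (a r.1 p.1 : Γ(X, _)))) := by
        refine ((((H7Flat.LineCocycle.isGen_gen D r.1).pullSect q)).bijective hrx).1 ?_
        rw [H10Coh.mres_mres, H10Coh.mres_mres] at hu
        exact hu.symm.trans hq'
      -- the coefficient of the twisted generators
      rw [Scheme.Modules.map_smul, Scheme.Modules.map_smul, H10Coh.mres_mres, H10Coh.mres_mres, smul_smul]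
      have he := congrArg (L'.presheaf.map (homOfLE (le_inf hpw hrw)).op) (S.ha p.2 r.2)
      rw [Scheme.Modules.map_smul, H10Coh.mres_mres, H10Coh.mres_mres] at he
      rw [he, smul_smul]
      congr 1
      refine (bijective_ι_appLE N (le_ι_preimage N)).1 ?_
      rw [hu', map_mul, map_mul, appLE_res, appLE_res, appLE_res, appLE_res, ← Scheme.Hom.appLE_eq_app]
      erw [appLE_appLE, appLE_res]
      have hNp : (⊤ : N.toScheme.Opens) ≤ N.ι ⁻¹ᵁ O p := fun x _ => x.2.1
      have hNr : (⊤ : N.toScheme.Opens) ≤ N.ι ⁻¹ᵁ O r := fun x _ => x.2.2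
      have hz : ∀ (p : X × S.J) (hp : (⊤ : N.toScheme.Opens) ≤ N.ι ⁻¹ᵁ O p),
          valU N.ι hp (γ p) = ((Z p.1).z N.ι p.2 (fun x hx => (hp hx).1) (fun x hx => (hp hx).2))⁻¹ := fun p hp => by
        rw [valU_eq_pull N.ι hp (toOpen N.ι hp) (toOpen_ι _ hp), hγ, map_inv,
          ← (Z p.1).z_nat (toOpen N.ι hp) _ _ (toOpen_ι _ hp)]
      have hxr : (⊤ : N.toScheme.Opens) ≤ (N.ι ≫ q) ⁻¹ᵁ (Z r.1).V := fun x _ => x.2.2.1
      have hxp : (⊤ : N.toScheme.Opens) ≤ (N.ι ≫ q) ⁻¹ᵁ (Z p.1).V := fun x _ => x.2.1.1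
      refine congrArg Units.val (?_ : valU N.ι hNp (γ p) *
          valU (O := S.W p.2 ⊓ S.W r.2) N.ι (fun x hx => ⟨(hNp hx).2, (hNr hx).2⟩) (S.a p.2 r.2) =
        valU (O := (Z r.1).V ⊓ (Z p.1).V) (N.ι ≫ q) (fun x hx => ⟨hxr hx, hxp hx⟩) (a r.1 p.1) * valU N.ι hNr (γ r))
      rw [hz p hNp, hz r hNr, InvFrame.trans (Z p.1) N.ι p.2 r.2 hxp (fun x hx => (hNp hx).2) (fun x hx => (hNr hx).2),
        hG r.1 p.1 N.ι r.2 (fun x hx => (hNr hx).2) hxr hxp]
      simp only [GenSys.data, mul_inv, mul_inv_cancel_left, inv_mul_cancel_comm])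
  exact ⟨φ⟩

end Groth.Agent.H12Pic.InvDesc.Eff
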