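import Groth.Agent.H12Pic.InvDesc.Eff.Line
import Groth.Agent.H12Pic.InvDesc.CoverLocal

/-!
# Units from isomorphisms of pulled back line bundles
-/

set_option autoImplicit false
set_option linter.style.haveILetI false
set_option linter.unusedSectionVars false

noncomputable section

universe u

open CategoryTheory CategoryTheory.Limits AlgebraicGeometry TopologicalSpace Opposite

namespace Groth.Agent.H12Pic.InvDesc.Eff

open Groth.Agent.H11Tilde

variable {P Q W : Scheme.{u}} {L : P.Modules}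

/-- Two generators differ by a unit. -/
theorem exists_unit_coeff {M : P.Modules} {O : P.Opens} {e e' : Γ(M, O)} (he : IsGen M e) (he' : IsGen M e') :
    ∃ a : Γ(P, O)ˣ, e = (a : Γ(P, O)) • e' := by
  obtain ⟨a, ha⟩ := H11Ample.exists_coeff he' e
  obtain ⟨b, hb⟩ := H11Ample.exists_coeff he e'
  have hab : a * b = 1 := by
    refine (he.bijective le_rfl).1 ?_
    change (a * b) • _ = (1 : Γ(P, O)) • _
    simp only [H10Coh.mres_self]
    rw [one_smul, mul_smul, ← hb, ← ha]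
  exact ⟨(unit_of_mul hab).unit, ha⟩

/-- A trivialisation of the pullback is a frame. -/
theorem exists_frame (S : GenSys L) (w : W ⟶ P)
    (r : (Scheme.Modules.pullback w).obj L ≅ Coh.structureModule W) : Nonempty (Frame S.data w) := by
  have hv : ∀ i, IsUnit (M := Γ(W, w ⁻¹ᵁ S.W i)) (r.hom.app _ (OmegaSh.pullSect w L (S.W i) (S.e i))) := fun i =>
    isUnit_of_isGen (IsGen.map_iso r ((S.gen i).pullSect w))
  refine ⟨⟨fun {T} t i hi => valU (O := w ⁻¹ᵁ S.W i) t hi (hv i).unit,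
    fun {T' T} m t t' e i hi hi' => ?_, fun {T} t i j hi hj => ?_⟩⟩
  · subst e
    exact valU_comp m t _ _
  · have h₀ := congrArg (OmegaSh.pullSect w L (S.W i ⊓ S.W j)) (S.ha i j)
    rw [OmegaSh.pullSect_smul, pullSect_res, pullSect_res] at h₀
    have h₁ := congrArg (r.hom.app _) h₀
    rw [Scheme.Modules.Hom.app_smul, H11Tilde.app_map_apply, H11Tilde.app_map_apply] at h₁
    have h₂ : W.presheaf.map (homOfLE (w.preimage_mono inf_le_left)).op ((hv i).unit : Γ(W, w ⁻¹ᵁ S.W i)) =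
        w.app (S.W i ⊓ S.W j) (S.a i j : Γ(P, S.W i ⊓ S.W j)) *
          W.presheaf.map (homOfLE (w.preimage_mono inf_le_right)).op ((hv j).unit : Γ(W, w ⁻¹ᵁ S.W j)) := h₁
    have h₃ := congrArg (t.appLE (w ⁻¹ᵁ (S.W i ⊓ S.W j)) ⊤ fun x hx => ⟨hi hx, hj hx⟩) h₂
    rw [map_mul, appLE_res, appLE_res, ← Scheme.Hom.appLE_eq_app, appLE_appLE] at h₃
    exact Units.ext h₃

/-- An isomorphism of two pullbacks gives units. -/
theorem exists_units_of_iso (S : GenSys L) (a₁ a₂ : Q ⟶ P)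
    (α : (Scheme.Modules.pullback a₁).obj L ≅ (Scheme.Modules.pullback a₂).obj L) :
    ∃ θ : ∀ {T : Scheme.{u}} (l : T ⟶ Q) (i j : S.J),
        (⊤ : T.Opens) ≤ (l ≫ a₁) ⁻¹ᵁ S.W i → (⊤ : T.Opens) ≤ (l ≫ a₂) ⁻¹ᵁ S.W j → GU T,
      (∀ {T' T : Scheme.{u}} (m : T' ⟶ T) (l : T ⟶ Q) (l' : T' ⟶ Q) (_ : m ≫ l = l') (i j : S.J) hi hj hi' hj',
        θ l' i j hi' hj' = pull m (θ l i j hi hj)) ∧
      (∀ {T : Scheme.{u}} (l : T ⟶ Q) (i i' j : S.J) hi hi' hj,
        S.data.g (l ≫ a₁) i i' hi hi' * θ l i' j hi' hj = θ l i j hi hj) ∧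
      ∀ {T : Scheme.{u}} (l : T ⟶ Q) (i j j' : S.J) hi hj hj',
        θ l i j hi hj * S.data.g (l ≫ a₂) j j' hj hj' = θ l i j' hi hj' := by
  let O : S.J → S.J → Q.Opens := fun i j => a₁ ⁻¹ᵁ S.W i ⊓ a₂ ⁻¹ᵁ S.W j
  let s₁ : ∀ i, Γ((Scheme.Modules.pullback a₂).obj L, a₁ ⁻¹ᵁ S.W i) := fun i =>
    α.hom.app _ (OmegaSh.pullSect a₁ L (S.W i) (S.e i))
  let s₂ : ∀ i, Γ((Scheme.Modules.pullback a₂).obj L, a₂ ⁻¹ᵁ S.W i) := fun i => OmegaSh.pullSect a₂ L (S.W i) (S.e i)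
  have h₁ : ∀ i, IsGen _ (s₁ i) := fun i => IsGen.map_iso α ((S.gen i).pullSect a₁)
  have h₂ : ∀ i, IsGen _ (s₂ i) := fun i => (S.gen i).pullSect a₂
  choose b hb using fun i j =>
    exists_unit_coeff ((h₁ i).res (inf_le_left : O i j ≤ _)) ((h₂ j).res (inf_le_right : O i j ≤ _))
  have key : ∀ (i j : S.J) (N : Q.Opens) (hN : N ≤ O i j),
      ((Scheme.Modules.pullback a₂).obj L).presheaf.map (homOfLE (hN.trans inf_le_left)).op (s₁ i) =
        Q.presheaf.map (homOfLE hN).op (b i j : Γ(Q, O i j)) •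
          ((Scheme.Modules.pullback a₂).obj L).presheaf.map (homOfLE (hN.trans inf_le_right)).op (s₂ j) :=
    fun i j N hN => by
      have := congrArg (((Scheme.Modules.pullback a₂).obj L).presheaf.map (homOfLE hN).op) (hb i j)
      rwa [Scheme.Modules.map_smul, H10Coh.mres_mres, H10Coh.mres_mres] at this
  have tr : ∀ (a : Q ⟶ P) (β : (Scheme.Modules.pullback a).obj L ⟶ (Scheme.Modules.pullback a₂).obj L) (i i' : S.J)
      (N : Q.Opens) (hi : N ≤ a ⁻¹ᵁ S.W i) (hi' : N ≤ a ⁻¹ᵁ S.W i'),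
      ((Scheme.Modules.pullback a₂).obj L).presheaf.map (homOfLE hi).op (β.app _ (OmegaSh.pullSect a L _ (S.e i))) =
        a.appLE (S.W i ⊓ S.W i') N (le_inf hi hi') (S.a i i' : Γ(P, S.W i ⊓ S.W i')) •
          ((Scheme.Modules.pullback a₂).obj L).presheaf.map (homOfLE hi').op
            (β.app _ (OmegaSh.pullSect a L _ (S.e i'))) := fun a β i i' N hi hi' => by
    have h₀ := congrArg (OmegaSh.pullSect a L (S.W i ⊓ S.W i')) (S.ha i i')
    rw [OmegaSh.pullSect_smul, pullSect_res, pullSect_res] at h₀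
    have h' := congrArg (β.app (a ⁻¹ᵁ (S.W i ⊓ S.W i'))) h₀
    rw [Scheme.Modules.Hom.app_smul, H11Tilde.app_map_apply, H11Tilde.app_map_apply] at h'
    have h₁ := congrArg (((Scheme.Modules.pullback a₂).obj L).presheaf.map
      (homOfLE (le_inf hi hi' : N ≤ a ⁻¹ᵁ (S.W i ⊓ S.W i'))).op) h'
    erw [Scheme.Modules.map_smul, H10Coh.mres_mres, H10Coh.mres_mres] at h₁
    refine h₁.trans (congrArg (· • _) ?_)
    rw [← Scheme.Hom.appLE_eq_app]; exact res_appLE a _ _ _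
  refine ⟨fun {T} l i j hi hj => valU (O := O i j) l (fun x hx => ⟨hi hx, hj hx⟩) (b i j),
    fun {T' T} m l l' e i j hi hj hi' hj' => ?_, fun {T} l i i' j hi hi' hj => ?_, fun {T} l i j j' hi hj hj' => ?_⟩
  · subst e
    exact valU_comp m l _ _
  · let N := O i j ⊓ O i' j
    have hN : (⊤ : T.Opens) ≤ l ⁻¹ᵁ N := fun x hx => ⟨⟨hi hx, hj hx⟩, hi' hx, hj hx⟩
    have e₁ := tr a₁ α.hom i i' N (inf_le_left.trans inf_le_left) (inf_le_right.trans inf_le_left)
    rw [key i j N inf_le_left, key i' j N inf_le_right, smul_smul] at e₁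
    have := congrArg (l.appLE N ⊤ hN) (((h₂ j).bijective _).1 e₁)
    rw [map_mul, appLE_res, appLE_res, appLE_appLE] at this
    exact Units.ext this.symm
  · let N := O i j ⊓ O i j'
    have hN : (⊤ : T.Opens) ≤ l ⁻¹ᵁ N := fun x hx => ⟨⟨hi hx, hj hx⟩, hi hx, hj' hx⟩
    have e₁ := key i j' N inf_le_right
    have e₂ := tr a₂ (𝟙 _) j j' N (inf_le_left.trans inf_le_right) (inf_le_right.trans inf_le_right)
    simp only [Scheme.Modules.Hom.id_app, CategoryTheory.id_apply] at e₂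
    rw [key i j N inf_le_left, e₂, smul_smul] at e₁
    have := congrArg (l.appLE N ⊤ hN) (((h₂ j').bijective _).1 e₁)
    rw [map_mul, appLE_res, appLE_res, appLE_appLE] at this
    exact Units.ext this

end Groth.Agent.H12Pic.InvDesc.Eff
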