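import Groth.Agent.H12Pic.InvDesc.Eff.PreGlue

/-!
# Effective descent of rigidified line bundles along covers of the base
-/

set_option autoImplicit false
set_option linter.style.haveILetI false
set_option linter.unusedSectionVars false

noncomputable section

universe u

open CategoryTheory CategoryTheory.Limits AlgebraicGeometry TopologicalSpace Opposite

namespace Groth.Agent.H12Pic.InvDesc.Eff

open Groth.Agent.H11Tilde

/-- Frames on affine covers of the base exist when the covering map is quasi-compact or open. -/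
theorem exists_frame_cover {P X : Scheme.{u}} {L : P.Modules} (S : GenSys L) (q : P ⟶ X) [Flat q] [Surjective q]
    (hq : QuasiCompact q ∨ IsOpenMap q) (x : X) :
    ∃ (V₀ : X.Opens) (_ : IsAffineOpen V₀) (_ : x ∈ V₀) (W : Scheme.{u}) (_ : IsAffine W)
      (g : W ⟶ V₀.toScheme) (w : W ⟶ P), Flat g ∧ Surjective g ∧ w ≫ q = g ≫ V₀.ι ∧ Nonempty (Frame S.data w) := by
  obtain ⟨V, hV, hxV, -⟩ := exists_isAffineOpen_mem_and_subset (U := (⊤ : X.Opens)) (x := x) trivial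
  have hxj : ∀ p : (q ⁻¹ᵁ V : P.Opens), ∃ (U : P.Opens) (i : S.J),
      IsAffineOpen U ∧ p.1 ∈ U ∧ U ≤ q ⁻¹ᵁ V ∧ U ≤ S.W i := fun p => by
    obtain ⟨i, hi⟩ := S.cover p.1
    obtain ⟨U, hU, hpU, hUV⟩ := exists_isAffineOpen_mem_and_subset (U := q ⁻¹ᵁ V ⊓ S.W i) (x := p.1) ⟨p.2, hi⟩
    exact ⟨U, i, hU, hpU, hUV.trans inf_le_left, hUV.trans inf_le_right⟩
  choose U ix hU hpU hUV hUi using hxj
  obtain ⟨t, ht⟩ : ∃ t : Finset (q ⁻¹ᵁ V : P.Opens), ∀ v ∈ V, ∃ p ∈ t, ∃ y ∈ U p, q y = v := by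
    rcases hq with hq | hq
    · haveI := hq
      obtain ⟨t, ht⟩ := (QuasiCompact.isCompact_preimage (f := q) _ V.isOpen hV.isCompact).elim_finite_subcover
        (fun p => (U p : Set P)) (fun p => (U p).isOpen) fun p hp => Set.mem_iUnion.2 ⟨⟨p, hp⟩, hpU _⟩
      refine ⟨t, fun v hv => ?_⟩
      obtain ⟨y, rfl⟩ := q.surjective v
      obtain ⟨p, hp, hy⟩ := Set.mem_iUnion₂.1 (ht hv)
      exact ⟨p, hp, y, hy, rfl⟩
    · obtain ⟨t, ht⟩ := hV.isCompact.elim_finite_subcover (fun p : (q ⁻¹ᵁ V : P.Opens) => q '' (U p : Set P))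
        (fun p => hq _ (U p).isOpen) fun v hv => by
          obtain ⟨y, rfl⟩ := q.surjective v
          exact Set.mem_iUnion.2 ⟨⟨y, hv⟩, y, hpU _, rfl⟩
      refine ⟨t, fun v hv => ?_⟩
      obtain ⟨p, hp, y, hy, hyv⟩ := Set.mem_iUnion₂.1 (ht hv)
      exact ⟨p, hp, y, hy, hyv⟩
  let Z : t → Scheme.{u} := fun p => (U p.1).toScheme
  haveI : ∀ p, IsAffine (Z p) := fun p => hU p.1
  let w : (∐ Z) ⟶ P := Sigma.desc fun p => (U p.1).ι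
  let g : (∐ Z) ⟶ V.toScheme := Sigma.desc fun p =>
    IsOpenImmersion.lift V.ι ((U p.1).ι ≫ q) (by
      rintro _ ⟨y, rfl⟩
      rw [Scheme.Opens.range_ι]
      exact hUV p.1 y.2)
  have hfac : w ≫ q = g ≫ V.ι := Sigma.hom_ext _ _ fun p => by
    rw [Sigma.ι_desc_assoc, Sigma.ι_desc_assoc, IsOpenImmersion.lift_fac]
  haveI : Flat w := IsZariskiLocalAtSource.sigmaDesc fun p => inferInstance
  haveI : Flat (g ≫ V.ι) := hfac ▸ inferInstance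
  refine ⟨V, hV, hxV, ∐ Z, inferInstance, g, w, flat_of_comp_ι g, ⟨fun v => ?_⟩, hfac, ?_⟩
  · obtain ⟨p, hp, y, hy, hyv⟩ := ht (V.ι v) v.2
    refine ⟨Sigma.ι Z ⟨p, hp⟩ ⟨y, hy⟩, V.ι.isOpenEmbedding.injective ?_⟩
    rw [← Scheme.Hom.comp_apply, ← Scheme.Hom.comp_apply, ← hfac, ← Category.assoc]
    refine Eq.trans ?_ hyv
    erw [Sigma.ι_desc]
    rfl
  · have hle : ∀ p : t, (Sigma.ι Z p).opensRange ≤ w ⁻¹ᵁ S.W (ix p.1) := fun p z hz => by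
      obtain ⟨y, rfl⟩ := hz
      change (Sigma.ι Z p ≫ w) y ∈ S.W (ix p.1)
      erw [Sigma.ι_desc]
      exact hUi p.1 y.2
    obtain ⟨r⟩ := nonempty_iso_of_disjoint_gens (fun p : t => (Sigma.ι Z p).opensRange)
      (fun z => (sigmaOpenCover Z).exists_eq z) (fun p p' hp => (disjoint_opensRange_sigmaι Z p p' hp).eq_bot)
      (fun p => ((Scheme.Modules.pullback w).obj L).presheaf.map (homOfLE (hle p)).op
        (OmegaSh.pullSect w L _ (S.e (ix p.1))))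
      (fun p => ((S.gen _).pullSect w).res (hle p))
    exact exists_frame S w r

theorem cancel_aux {G : Type*} [CommGroup G] (g g' A B C x y : G) (h : x * y = 1) :
    g * (A * x) * (y * (B * g')) * (g * (C * g'))⁻¹ = A * B * C⁻¹ := by
  rw [show g * (A * x) * (y * (B * g')) = (g * g') * (A * B) * (x * y) by ac_rfl, h, mul_one,
    show g * (C * g') = (g * g') * C by ac_rfl, ← div_eq_mul_inv, mul_div_mul_left_eq_div, div_eq_mul_inv]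

variable {X S₀ U : Scheme.{u}} (f : X ⟶ S₀) (σ : S₀ ⟶ X) (hσ : σ ≫ f = 𝟙 S₀) (u : U ⟶ S₀)

/-- The first map from the double base change. -/
abbrev bc₁ : pullback f (pullback.fst u u ≫ u) ⟶ pullback f u :=
  pullback.lift (pullback.fst f _) (pullback.snd f _ ≫ pullback.fst u u)
    (by rw [Category.assoc]; exact pullback.condition)

/-- The second map from the double base change. -/
abbrev bc₂ : pullback f (pullback.fst u u ≫ u) ⟶ pullback f u :=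
  pullback.lift (pullback.fst f _) (pullback.snd f _ ≫ pullback.snd u u)
    (by rw [Category.assoc, ← pullback.condition (f := u) (g := u)]; exact pullback.condition)

/-- The structure map of the triple product. -/
abbrev triple : pullback (pullback.fst u u ≫ u) u ⟶ S₀ :=
  pullback.fst (pullback.fst u u ≫ u) u ≫ pullback.fst u u ≫ u

/-- The induced section. -/
abbrev bcσ : U ⟶ pullback f u := pullback.lift (u ≫ σ) (𝟙 U) (by rw [Category.assoc, hσ]; simp)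

include hσ in
set_option maxHeartbeats 1000000 in
-- long proof
/-- A rigidified line bundle with an isomorphism of its two pullbacks has a descent datum. -/
theorem exists_glue {L : (pullback f u).Modules} (S : GenSys L)
    (α : (Scheme.Modules.pullback (bc₁ f u)).obj L ≅ (Scheme.Modules.pullback (bc₂ f u)).obj L)
    (r : (Scheme.Modules.pullback (bcσ f σ hσ u)).obj L ≅ Coh.structureModule U)
    (hb : Function.Surjective (pullback.snd f (triple u)).appTop) :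
    Nonempty (Glue S.data (pullback.fst f u)) := by
  let q := pullback.fst f u
  let π := pullback.snd f u
  obtain ⟨θ₀, hnat, hleft, hright⟩ := exists_units_of_iso S (bc₁ f u) (bc₂ f u) α
  obtain ⟨τ⟩ := exists_frame S (bcσ f σ hσ u) r
  have hu : ∀ {T : Scheme.{u}} (k₁ k₂ : T ⟶ pullback f u), k₁ ≫ q = k₂ ≫ q → (k₁ ≫ π) ≫ u = (k₂ ≫ π) ≫ u :=
    fun {T} k₁ k₂ h => by rw [Category.assoc, Category.assoc, ← pullback.condition, reassoc_of% h]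
  let ℓ : ∀ {T : Scheme.{u}} (k₁ k₂ : T ⟶ pullback f u), k₁ ≫ q = k₂ ≫ q →
      (T ⟶ pullback f (pullback.fst u u ≫ u)) := fun {T} k₁ k₂ h =>
    pullback.lift (k₁ ≫ q) (pullback.lift (k₁ ≫ π) (k₂ ≫ π) (hu k₁ k₂ h))
      (by rw [pullback.lift_fst_assoc, Category.assoc, Category.assoc, pullback.condition])
  have hℓ₁ : ∀ {T : Scheme.{u}} (k₁ k₂ : T ⟶ pullback f u) (h : k₁ ≫ q = k₂ ≫ q), ℓ k₁ k₂ h ≫ bc₁ f u = k₁ :=
    fun {T} k₁ k₂ h => by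
      refine pullback.hom_ext ?_ ?_
      · rw [Category.assoc, pullback.lift_fst, pullback.lift_fst]
      · rw [Category.assoc, pullback.lift_snd, pullback.lift_snd_assoc, pullback.lift_fst]
  have hℓ₂ : ∀ {T : Scheme.{u}} (k₁ k₂ : T ⟶ pullback f u) (h : k₁ ≫ q = k₂ ≫ q), ℓ k₁ k₂ h ≫ bc₂ f u = k₂ :=
    fun {T} k₁ k₂ h => by
      refine pullback.hom_ext ?_ ?_
      · rw [Category.assoc, pullback.lift_fst, pullback.lift_fst]; exact h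
      · rw [Category.assoc, pullback.lift_snd, pullback.lift_snd_assoc, pullback.lift_snd]
  let θ : ∀ {T : Scheme.{u}} (k₁ k₂ : T ⟶ pullback f u) (_ : k₁ ≫ q = k₂ ≫ q) (i j : S.J),
      (⊤ : T.Opens) ≤ k₁ ⁻¹ᵁ S.W i → (⊤ : T.Opens) ≤ k₂ ⁻¹ᵁ S.W j → GU T := fun {T} k₁ k₂ h i j hi hj =>
    θ₀ (ℓ k₁ k₂ h) i j (by rw [hℓ₁ k₁ k₂ h]; exact hi) (by rw [hℓ₂ k₁ k₂ h]; exact hj)
  have θ_nat : ∀ {T' T : Scheme.{u}} (m : T' ⟶ T) (k₁ k₂ : T ⟶ pullback f u) (h : k₁ ≫ q = k₂ ≫ q)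
      (k₁' k₂' : T' ⟶ pullback f u) (_ : m ≫ k₁ = k₁') (_ : m ≫ k₂ = k₂') (h' : k₁' ≫ q = k₂' ≫ q) (i j : S.J)
      hi hj hi' hj', θ k₁' k₂' h' i j hi' hj' = pull m (θ k₁ k₂ h i j hi hj) := by
    intro T' T m k₁ k₂ h k₁' k₂' e₁ e₂ h' i j hi hj hi' hj'
    subst e₁ e₂
    refine hnat m _ _ ?_ i j _ _ _ _
    refine pullback.hom_ext ?_ (pullback.hom_ext ?_ ?_) <;>
      simp only [Category.assoc, ℓ, pullback.lift_fst, pullback.lift_snd]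
  have θ_left : ∀ {T : Scheme.{u}} (k₁ k₂ : T ⟶ pullback f u) (h : k₁ ≫ q = k₂ ≫ q) (i i' j : S.J) hi hi' hj,
      S.data.g k₁ i i' hi hi' * θ k₁ k₂ h i' j hi' hj = θ k₁ k₂ h i j hi hj := by
    intro T k₁ k₂ h i i' j hi hi' hj
    have := hleft (ℓ k₁ k₂ h) i i' j (by rw [hℓ₁ k₁ k₂ h]; exact hi) (by rw [hℓ₁ k₁ k₂ h]; exact hi')
      (by rw [hℓ₂ k₁ k₂ h]; exact hj)
    simp only [hℓ₁ k₁ k₂ h] at this
    exact this
  have θ_right : ∀ {T : Scheme.{u}} (k₁ k₂ : T ⟶ pullback f u) (h : k₁ ≫ q = k₂ ≫ q) (i j j' : S.J) hi hj hj',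
      θ k₁ k₂ h i j hi hj * S.data.g k₂ j j' hj hj' = θ k₁ k₂ h i j' hi hj' := by
    intro T k₁ k₂ h i j j' hi hj hj'
    have := hright (ℓ k₁ k₂ h) i j j' (by rw [hℓ₁ k₁ k₂ h]; exact hi) (by rw [hℓ₂ k₁ k₂ h]; exact hj)
      (by rw [hℓ₂ k₁ k₂ h]; exact hj')
    simp only [hℓ₂ k₁ k₂ h] at this
    exact this
  let σ' := bcσ f σ hσ u
  have hσq : ∀ {T : Scheme.{u}} (t t' : T ⟶ U), t ≫ u = t' ≫ u → (t ≫ σ') ≫ q = (t' ≫ σ') ≫ q :=
    fun {T} t t' h => by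
      rw [Category.assoc, Category.assoc, pullback.lift_fst, reassoc_of% h]
  have hσπ : ∀ {T : Scheme.{u}} (t : T ⟶ U), (t ≫ σ') ≫ π = t := fun {T} t => by
    rw [Category.assoc, pullback.lift_snd, Category.comp_id]
  -- the normalising unit
  let O : S.J × S.J → (pullback u u).Opens := fun p =>
    (pullback.fst u u ≫ σ') ⁻¹ᵁ S.W p.1 ⊓ (pullback.snd u u ≫ σ') ⁻¹ᵁ S.W p.2
  have hO : ∀ x, ∃ p, x ∈ O p := fun x =>
    ⟨((S.cover ((pullback.fst u u ≫ σ') x)).choose, (S.cover ((pullback.snd u u ≫ σ') x)).choose),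
      (S.cover _).choose_spec, (S.cover _).choose_spec⟩
  have hl₁ : ∀ {T : Scheme.{u}} (l : T ⟶ pullback u u) (p : S.J × S.J), (⊤ : T.Opens) ≤ l ⁻¹ᵁ O p →
      (⊤ : T.Opens) ≤ ((l ≫ pullback.fst u u) ≫ σ') ⁻¹ᵁ S.W p.1 := fun l p h => by
    rw [Category.assoc]; exact fun x _ => (h (x := x) trivial).1
  have hl₂ : ∀ {T : Scheme.{u}} (l : T ⟶ pullback u u) (p : S.J × S.J), (⊤ : T.Opens) ≤ l ⁻¹ᵁ O p →
      (⊤ : T.Opens) ≤ ((l ≫ pullback.snd u u) ≫ σ') ⁻¹ᵁ S.W p.2 := fun l p h => by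
    rw [Category.assoc]; exact fun x _ => (h (x := x) trivial).2
  obtain ⟨ρ, hρ⟩ := exists_unit O hO
    (fun T l p h => τ.τ (l ≫ pullback.fst u u) p.1 (hl₁ l p h) *
      (θ ((l ≫ pullback.fst u u) ≫ σ') ((l ≫ pullback.snd u u) ≫ σ')
          (hσq _ _ (by rw [Category.assoc, Category.assoc, pullback.condition])) p.1 p.2 (hl₁ l p h) (hl₂ l p h) *
        τ.τ (l ≫ pullback.snd u u) p.2 (hl₂ l p h))⁻¹)
    (fun T' T m l p h => by
      rw [map_mul, map_inv, map_mul, τ.τ_nat m _ _ (Category.assoc _ _ _).symm,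
        τ.τ_nat m _ _ (Category.assoc _ _ _).symm,
        θ_nat m ((l ≫ pullback.fst u u) ≫ σ') ((l ≫ pullback.snd u u) ≫ σ')
          (hσq _ _ (by rw [Category.assoc, Category.assoc, pullback.condition]))
          (((m ≫ l) ≫ pullback.fst u u) ≫ σ') (((m ≫ l) ≫ pullback.snd u u) ≫ σ')
          (by simp only [Category.assoc]) (by simp only [Category.assoc])
          (hσq _ _ (by simp only [Category.assoc, pullback.condition])) p.1 p.2 (hl₁ l p h) (hl₂ l p h)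
          (hl₁ (m ≫ l) p (lands_comp m h)) (hl₂ (m ≫ l) p (lands_comp m h))])
    (fun T l p p' h h' => by
      have hc : ((l ≫ pullback.fst u u) ≫ σ') ≫ q = ((l ≫ pullback.snd u u) ≫ σ') ≫ q :=
        hσq _ _ (by rw [Category.assoc, Category.assoc, pullback.condition])
      rw [τ.trans _ p.1 p'.1 (hl₁ l p h) (hl₁ l p' h'), τ.trans _ p.2 p'.2 (hl₂ l p h) (hl₂ l p' h'),
        ← mul_assoc (θ _ _ hc p.1 p.2 (hl₁ l p h) (hl₂ l p h)), θ_right _ _ hc p.1 p.2 p'.2 (hl₁ l p h) (hl₂ l p h) (hl₂ l p' h'),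
        ← θ_left _ _ hc p.1 p'.1 p'.2 (hl₁ l p h) (hl₁ l p' h') (hl₂ l p' h'), ← div_eq_mul_inv, ← div_eq_mul_inv,
        mul_assoc (S.data.g _ _ _ _ _) (θ _ _ hc p'.1 p'.2 (hl₁ l p' h') (hl₂ l p' h')) _, mul_div_mul_left_eq_div])
  let θ' : ∀ {T : Scheme.{u}} (k₁ k₂ : T ⟶ pullback f u) (_ : k₁ ≫ q = k₂ ≫ q) (i j : S.J),
      (⊤ : T.Opens) ≤ k₁ ⁻¹ᵁ S.W i → (⊤ : T.Opens) ≤ k₂ ⁻¹ᵁ S.W j → GU T := fun {T} k₁ k₂ h i j hi hj =>
    pull (pullback.lift (k₁ ≫ π) (k₂ ≫ π) (hu k₁ k₂ h)) ρ * θ k₁ k₂ h i j hi hj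
  have θ'_nat : ∀ {T' T : Scheme.{u}} (m : T' ⟶ T) (k₁ k₂ : T ⟶ pullback f u) (h : k₁ ≫ q = k₂ ≫ q)
      (k₁' k₂' : T' ⟶ pullback f u) (_ : m ≫ k₁ = k₁') (_ : m ≫ k₂ = k₂') (h' : k₁' ≫ q = k₂' ≫ q) (i j : S.J)
      hi hj hi' hj', θ' k₁' k₂' h' i j hi' hj' = pull m (θ' k₁ k₂ h i j hi hj) := by
    intro T' T m k₁ k₂ h k₁' k₂' e₁ e₂ h' i j hi hj hi' hj'
    simp only [θ', map_mul, θ_nat m k₁ k₂ h k₁' k₂' e₁ e₂ h' i j hi hj hi' hj', ← pull_comp]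
    congr 1
    refine pull_congr (pullback.hom_ext ?_ ?_) ρ
    · rw [pullback.lift_fst, Category.assoc, pullback.lift_fst, ← e₁, Category.assoc]
    · rw [pullback.lift_snd, Category.assoc, pullback.lift_snd, ← e₂, Category.assoc]
  have θ'_left : ∀ {T : Scheme.{u}} (k₁ k₂ : T ⟶ pullback f u) (h : k₁ ≫ q = k₂ ≫ q) (i i' j : S.J) hi hi' hj,
      S.data.g k₁ i i' hi hi' * θ' k₁ k₂ h i' j hi' hj = θ' k₁ k₂ h i j hi hj := fun {T} k₁ k₂ h i i' j hi hi' hj => by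
    simp only [θ']
    rw [mul_left_comm, θ_left k₁ k₂ h i i' j hi hi' hj]
  have θ'_right : ∀ {T : Scheme.{u}} (k₁ k₂ : T ⟶ pullback f u) (h : k₁ ≫ q = k₂ ≫ q) (i j j' : S.J) hi hj hj',
      θ' k₁ k₂ h i j hi hj * S.data.g k₂ j j' hj hj' = θ' k₁ k₂ h i j' hi hj' :=
    fun {T} k₁ k₂ h i j j' hi hj hj' => by
    simp only [θ']
    rw [mul_assoc, θ_right k₁ k₂ h i j j' hi hj hj']
  have hrig : ∀ {T : Scheme.{u}} (t₁ t₂ : T ⟶ U) (h : t₁ ≫ u = t₂ ≫ u) (i j : S.J)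
      (hi : (⊤ : T.Opens) ≤ (t₁ ≫ σ') ⁻¹ᵁ S.W i) (hj : (⊤ : T.Opens) ≤ (t₂ ≫ σ') ⁻¹ᵁ S.W j),
      τ.τ t₁ i hi = θ' (t₁ ≫ σ') (t₂ ≫ σ') (hσq t₁ t₂ h) i j hi hj * τ.τ t₂ j hj := by
    intro T t₁ t₂ h i j hi hj
    have hl : (⊤ : T.Opens) ≤ pullback.lift t₁ t₂ h ⁻¹ᵁ O (i, j) := fun x _ => by
      refine ⟨?_, ?_⟩
      · change (pullback.lift t₁ t₂ h ≫ pullback.fst u u ≫ σ') x ∈ S.W i
        rw [pullback.lift_fst_assoc]; exact hi (x := x) trivial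
      · change (pullback.lift t₁ t₂ h ≫ pullback.snd u u ≫ σ') x ∈ S.W j
        rw [pullback.lift_snd_assoc]; exact hj (x := x) trivial
    simp only [θ', hσπ]
    rw [hρ T _ (i, j) hl]
    simp only [pullback.lift_fst, pullback.lift_snd]
    rw [mul_assoc, inv_mul_cancel_right]
  have θ'_congr : ∀ {T : Scheme.{u}} (k₁ k₂ k₁' k₂' : T ⟶ pullback f u) (_ : k₁' = k₁) (_ : k₂' = k₂)
      (h : k₁ ≫ q = k₂ ≫ q) (h' : k₁' ≫ q = k₂' ≫ q) (i j : S.J) hi hj hi' hj',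
      θ' k₁' k₂' h' i j hi' hj' = θ' k₁ k₂ h i j hi hj := by
    intro T k₁ k₂ k₁' k₂' e₁ e₂ h h' i j hi hj hi' hj'
    subst e₁ e₂
    rfl
  -- the cocycle
  let e₁ := pullback.fst (pullback.fst u u ≫ u) u ≫ pullback.fst u u
  let e₂ := pullback.fst (pullback.fst u u ≫ u) u ≫ pullback.snd u u
  let e₃ := pullback.snd (pullback.fst u u ≫ u) u
  have he₂ : e₂ ≫ u = triple u := by rw [Category.assoc, ← pullback.condition]
  have he₃ : e₃ ≫ u = triple u := pullback.condition.symm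
  let pr : ∀ (e : pullback (pullback.fst u u ≫ u) u ⟶ U), e ≫ u = triple u →
      (pullback f (triple u) ⟶ pullback f u) := fun e he =>
    pullback.lift (pullback.fst f (triple u)) (pullback.snd f (triple u) ≫ e)
      (by rw [Category.assoc, he]; exact pullback.condition)
  have hpr : ∀ e he, pr e he ≫ q = pullback.fst f (triple u) := fun e he => pullback.lift_fst _ _ _
  let p₁ := pr e₁ (Category.assoc _ _ _)
  let p₂ := pr e₂ he₂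
  let p₃ := pr e₃ he₃
  have h₁₂ : ∀ {T : Scheme.{u}} (l : T ⟶ pullback f (triple u)), (l ≫ p₁) ≫ q = (l ≫ p₂) ≫ q := fun l => by
    rw [Category.assoc, Category.assoc, hpr e₁ (Category.assoc _ _ _), hpr e₂ he₂]
  have h₂₃ : ∀ {T : Scheme.{u}} (l : T ⟶ pullback f (triple u)), (l ≫ p₂) ≫ q = (l ≫ p₃) ≫ q := fun l => by
    rw [Category.assoc, Category.assoc, hpr e₂ he₂, hpr e₃ he₃]
  let O₃ : S.J × S.J × S.J → (pullback f (triple u)).Opens := fun p =>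
    p₁ ⁻¹ᵁ S.W p.1 ⊓ (p₂ ⁻¹ᵁ S.W p.2.1 ⊓ p₃ ⁻¹ᵁ S.W p.2.2)
  obtain ⟨δ, hδ⟩ := exists_unit O₃
    (fun x => ⟨((S.cover (p₁ x)).choose, (S.cover (p₂ x)).choose, (S.cover (p₃ x)).choose),
      (S.cover _).choose_spec, (S.cover _).choose_spec, (S.cover _).choose_spec⟩)
    (fun T l p h => θ' (l ≫ p₁) (l ≫ p₂) (h₁₂ l) p.1 p.2.1 (fun x _ => (h (x := x) trivial).1)
          (fun x _ => (h (x := x) trivial).2.1) *
        θ' (l ≫ p₂) (l ≫ p₃) (h₂₃ l) p.2.1 p.2.2 (fun x _ => (h (x := x) trivial).2.1)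
          (fun x _ => (h (x := x) trivial).2.2) *
        (θ' (l ≫ p₁) (l ≫ p₃) ((h₁₂ l).trans (h₂₃ l)) p.1 p.2.2 (fun x _ => (h (x := x) trivial).1)
          (fun x _ => (h (x := x) trivial).2.2))⁻¹)
    (fun T' T m l p h => by
      have a₁ : (⊤ : T.Opens) ≤ (l ≫ p₁) ⁻¹ᵁ S.W p.1 := fun x _ => (h (x := x) trivial).1
      have a₂ : (⊤ : T.Opens) ≤ (l ≫ p₂) ⁻¹ᵁ S.W p.2.1 := fun x _ => (h (x := x) trivial).2.1
      have a₃ : (⊤ : T.Opens) ≤ (l ≫ p₃) ⁻¹ᵁ S.W p.2.2 := fun x _ => (h (x := x) trivial).2.2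
      have b₁ : (⊤ : T'.Opens) ≤ ((m ≫ l) ≫ p₁) ⁻¹ᵁ S.W p.1 := fun x _ => (lands_comp m h (x := x) trivial).1
      have b₂ : (⊤ : T'.Opens) ≤ ((m ≫ l) ≫ p₂) ⁻¹ᵁ S.W p.2.1 := fun x _ => (lands_comp m h (x := x) trivial).2.1
      have b₃ : (⊤ : T'.Opens) ≤ ((m ≫ l) ≫ p₃) ⁻¹ᵁ S.W p.2.2 := fun x _ => (lands_comp m h (x := x) trivial).2.2
      rw [map_mul, map_mul, map_inv,
        θ'_nat m (l ≫ p₁) (l ≫ p₂) (h₁₂ l) ((m ≫ l) ≫ p₁) ((m ≫ l) ≫ p₂) (Category.assoc _ _ _).symm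
          (Category.assoc _ _ _).symm (h₁₂ _) p.1 p.2.1 a₁ a₂ b₁ b₂,
        θ'_nat m (l ≫ p₂) (l ≫ p₃) (h₂₃ l) ((m ≫ l) ≫ p₂) ((m ≫ l) ≫ p₃) (Category.assoc _ _ _).symm
          (Category.assoc _ _ _).symm (h₂₃ _) p.2.1 p.2.2 a₂ a₃ b₂ b₃,
        θ'_nat m (l ≫ p₁) (l ≫ p₃) ((h₁₂ l).trans (h₂₃ l)) ((m ≫ l) ≫ p₁) ((m ≫ l) ≫ p₃) (Category.assoc _ _ _).symm
          (Category.assoc _ _ _).symm ((h₁₂ _).trans (h₂₃ _)) p.1 p.2.2 a₁ a₃ b₁ b₃])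
    (fun T l p p' h h' => by
      have a₁ : (⊤ : T.Opens) ≤ (l ≫ p₁) ⁻¹ᵁ S.W p'.1 := fun x _ => (h' (x := x) trivial).1
      have a₂ : (⊤ : T.Opens) ≤ (l ≫ p₂) ⁻¹ᵁ S.W p'.2.1 := fun x _ => (h' (x := x) trivial).2.1
      have a₂₀ : (⊤ : T.Opens) ≤ (l ≫ p₂) ⁻¹ᵁ S.W p.2.1 := fun x _ => (h (x := x) trivial).2.1
      have a₃ : (⊤ : T.Opens) ≤ (l ≫ p₃) ⁻¹ᵁ S.W p'.2.2 := fun x _ => (h' (x := x) trivial).2.2
      have a₁₀ : (⊤ : T.Opens) ≤ (l ≫ p₁) ⁻¹ᵁ S.W p.1 := fun x _ => (h (x := x) trivial).1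
      have a₃₀ : (⊤ : T.Opens) ≤ (l ≫ p₃) ⁻¹ᵁ S.W p.2.2 := fun x _ => (h (x := x) trivial).2.2
      have hg : S.data.g (l ≫ p₂) p'.2.1 p.2.1 a₂ a₂₀ * S.data.g (l ≫ p₂) p.2.1 p'.2.1 a₂₀ a₂ = 1 :=
        (S.data.g_mul _ _ _ _ _ _ _).trans (S.data.g_self _ _ _ _)
      rw [← θ'_left (l ≫ p₁) (l ≫ p₂) (h₁₂ l) p.1 p'.1 p.2.1 a₁₀ a₁ a₂₀,
        ← θ'_right (l ≫ p₁) (l ≫ p₂) (h₁₂ l) p'.1 p'.2.1 p.2.1 a₁ a₂ a₂₀,
        ← θ'_left (l ≫ p₂) (l ≫ p₃) (h₂₃ l) p.2.1 p'.2.1 p.2.2 a₂₀ a₂ a₃₀,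
        ← θ'_right (l ≫ p₂) (l ≫ p₃) (h₂₃ l) p'.2.1 p'.2.2 p.2.2 a₂ a₃ a₃₀,
        ← θ'_left (l ≫ p₁) (l ≫ p₃) ((h₁₂ l).trans (h₂₃ l)) p.1 p'.1 p.2.2 a₁₀ a₁ a₃₀,
        ← θ'_right (l ≫ p₁) (l ≫ p₃) ((h₁₂ l).trans (h₂₃ l)) p'.1 p'.2.2 p.2.2 a₁ a₃ a₃₀]
      exact cancel_aux _ _ _ _ _ _ _ hg)
  obtain ⟨d, hd⟩ : ∃ d, pull (pullback.snd f (triple u)) d = δ := by
    obtain ⟨d, hd⟩ := hb (δ : Γ(pullback f (triple u), ⊤))
    obtain ⟨d', hd'⟩ := hb ((δ⁻¹ : GU _) : Γ(pullback f (triple u), ⊤))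
    let σ₃ : pullback (pullback.fst u u ≫ u) u ⟶ pullback f (triple u) :=
      pullback.lift (triple u ≫ σ) (𝟙 _) (by rw [Category.assoc, hσ, Category.comp_id, Category.id_comp])
    have hid : ∀ a, σ₃.appTop ((pullback.snd f (triple u)).appTop a) = a := fun a => by
      rw [← CommRingCat.comp_apply, ← Scheme.Hom.comp_appTop, pullback.lift_snd, Scheme.Hom.id_appTop]
      rfl
    have h1 : d * d' = 1 := by rw [← hid (d * d'), map_mul, hd, hd', Units.mul_inv, map_one]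
    exact ⟨(unit_of_mul h1).unit, Units.ext hd⟩
  have hd1 : d = 1 := by
    let U₃ := pullback (pullback.fst u u ≫ u) u
    let σ₃ : U₃ ⟶ pullback f (triple u) :=
      pullback.lift (triple u ≫ σ) (𝟙 _) (by rw [Category.assoc, hσ, Category.comp_id, Category.id_comp])
    have hσp : ∀ (e : U₃ ⟶ U) (he : e ≫ u = triple u), σ₃ ≫ pr e he = e ≫ σ' := fun e he => by
      refine pullback.hom_ext ?_ ?_
      · rw [Category.assoc, pullback.lift_fst, pullback.lift_fst]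
        refine Eq.symm ?_
        rw [Category.assoc, pullback.lift_fst, ← Category.assoc, he]
      · rw [Category.assoc, pullback.lift_snd, pullback.lift_snd_assoc, Category.id_comp, Category.assoc,
          pullback.lift_snd, Category.comp_id]
    rw [← pull_id d, ← (pullback.lift_snd _ _ _ : σ₃ ≫ pullback.snd f (triple u) = _), pull_comp, hd]
    refine eq_of_cover_units (fun p => σ₃ ⁻¹ᵁ O₃ p)
      (fun x => ⟨((S.cover (p₁ (σ₃ x))).choose, (S.cover (p₂ (σ₃ x))).choose, (S.cover (p₃ (σ₃ x))).choose),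
        (S.cover _).choose_spec, (S.cover _).choose_spec, (S.cover _).choose_spec⟩) fun p => ?_
    let N := σ₃ ⁻¹ᵁ O₃ p
    rw [← pull_comp, map_one, hδ _ _ p (fun (x : (σ₃ ⁻¹ᵁ O₃ p).toScheme) _ => x.2), mul_inv_eq_one]
    have k₁ : (N.ι ≫ σ₃) ≫ p₁ = (N.ι ≫ e₁) ≫ σ' :=
      (Category.assoc _ _ _).trans ((congrArg (N.ι ≫ ·) (hσp e₁ (Category.assoc _ _ _))).trans (Category.assoc _ _ _).symm)
    have k₂ : (N.ι ≫ σ₃) ≫ p₂ = (N.ι ≫ e₂) ≫ σ' :=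
      (Category.assoc _ _ _).trans ((congrArg (N.ι ≫ ·) (hσp e₂ he₂)).trans (Category.assoc _ _ _).symm)
    have k₃ : (N.ι ≫ σ₃) ≫ p₃ = (N.ι ≫ e₃) ≫ σ' :=
      (Category.assoc _ _ _).trans ((congrArg (N.ι ≫ ·) (hσp e₃ he₃)).trans (Category.assoc _ _ _).symm)
    have he₁₂ : (N.ι ≫ e₁) ≫ u = (N.ι ≫ e₂) ≫ u := by
      simp only [e₁, e₂, Category.assoc, pullback.condition]
    have he₂₃ : (N.ι ≫ e₂) ≫ u = (N.ι ≫ e₃) ≫ u :=
      (Category.assoc _ _ _).trans ((congrArg (N.ι ≫ ·) (he₂.trans he₃.symm)).trans (Category.assoc _ _ _).symm)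
    have b₁ : (⊤ : N.toScheme.Opens) ≤ ((N.ι ≫ e₁) ≫ σ') ⁻¹ᵁ S.W p.1 := by rw [← k₁]; exact fun x _ => x.2.1
    have b₂ : (⊤ : N.toScheme.Opens) ≤ ((N.ι ≫ e₂) ≫ σ') ⁻¹ᵁ S.W p.2.1 := by rw [← k₂]; exact fun x _ => x.2.2.1
    have b₃ : (⊤ : N.toScheme.Opens) ≤ ((N.ι ≫ e₃) ≫ σ') ⁻¹ᵁ S.W p.2.2 := by rw [← k₃]; exact fun x _ => x.2.2.2
    have r₁₃ := hrig (N.ι ≫ e₁) (N.ι ≫ e₃) (he₁₂.trans he₂₃) p.1 p.2.2 b₁ b₃
    rw [hrig (N.ι ≫ e₁) (N.ι ≫ e₂) he₁₂ p.1 p.2.1 b₁ b₂, hrig (N.ι ≫ e₂) (N.ι ≫ e₃) he₂₃ p.2.1 p.2.2 b₂ b₃,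
      ← mul_assoc] at r₁₃
    have c₁ : (⊤ : N.toScheme.Opens) ≤ ((N.ι ≫ σ₃) ≫ p₁) ⁻¹ᵁ S.W p.1 := by rw [k₁]; exact b₁
    have c₂ : (⊤ : N.toScheme.Opens) ≤ ((N.ι ≫ σ₃) ≫ p₂) ⁻¹ᵁ S.W p.2.1 := by rw [k₂]; exact b₂
    have c₃ : (⊤ : N.toScheme.Opens) ≤ ((N.ι ≫ σ₃) ≫ p₃) ⁻¹ᵁ S.W p.2.2 := by rw [k₃]; exact b₃
    exact ((congrArg₂ (· * ·) (θ'_congr _ _ _ _ k₁ k₂ (hσq _ _ he₁₂) (h₁₂ _) _ _ b₁ b₂ c₁ c₂)
      (θ'_congr _ _ _ _ k₂ k₃ (hσq _ _ he₂₃) (h₂₃ _) _ _ b₂ b₃ c₂ c₃)).trans (mul_right_cancel r₁₃)).trans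
      (θ'_congr _ _ _ _ k₁ k₃ (hσq _ _ (he₁₂.trans he₂₃)) ((h₁₂ _).trans (h₂₃ _)) _ _ b₁ b₃ c₁ c₃).symm
  refine ⟨⟨@θ', @θ'_nat, @θ'_left, @θ'_right, fun {T} k₁ k₂ k₃ h₁ h₂ i j l hi hj hl => ?_⟩⟩
  let m : T ⟶ pullback f (triple u) := pullback.lift (k₁ ≫ q)
    (pullback.lift (pullback.lift (k₁ ≫ π) (k₂ ≫ π) (hu k₁ k₂ h₁)) (k₃ ≫ π)
      (by rw [pullback.lift_fst_assoc]; exact hu k₁ k₃ (h₁.trans h₂)))
    (by rw [pullback.lift_fst_assoc, pullback.lift_fst_assoc, Category.assoc, Category.assoc, pullback.condition])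
  have m₁ : m ≫ p₁ = k₁ := by
    refine pullback.hom_ext ?_ ?_
    · rw [Category.assoc, pullback.lift_fst, pullback.lift_fst]
    · rw [Category.assoc, pullback.lift_snd, pullback.lift_snd_assoc, pullback.lift_fst_assoc, pullback.lift_fst]
  have m₂ : m ≫ p₂ = k₂ := by
    refine pullback.hom_ext ?_ ?_
    · rw [Category.assoc, pullback.lift_fst, pullback.lift_fst]; exact h₁
    · rw [Category.assoc, pullback.lift_snd, pullback.lift_snd_assoc, pullback.lift_fst_assoc, pullback.lift_snd]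
  have m₃ : m ≫ p₃ = k₃ := by
    refine pullback.hom_ext ?_ ?_
    · rw [Category.assoc, pullback.lift_fst, pullback.lift_fst]; exact h₁.trans h₂
    · rw [Category.assoc, pullback.lift_snd, pullback.lift_snd_assoc, pullback.lift_snd]
  have := hδ T m (i, j, l) (fun x hx => ⟨by
    change (m ≫ p₁) x ∈ S.W i
    rw [m₁]; exact hi hx, by
    change (m ≫ p₂) x ∈ S.W j
    rw [m₂]; exact hj hx, by
    change (m ≫ p₃) x ∈ S.W l
    rw [m₃]; exact hl hx⟩)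
  rw [← hd, hd1, map_one, map_one] at this
  simp only [m₁, m₂, m₃] at this
  exact (mul_inv_eq_one.1 this.symm)

include hσ in
/-- Effective descent of a rigidified line bundle along a cover of the base. -/
theorem exists_descended_rigid [Flat u] [Surjective u]
    (hq : QuasiCompact (pullback.fst f u) ∨ IsOpenMap (pullback.fst f u)) {L : (pullback f u).Modules}
    (hL : PicF.IsInvertible L)
    (α : Nonempty ((Scheme.Modules.pullback (bc₁ f u)).obj L ≅ (Scheme.Modules.pullback (bc₂ f u)).obj L))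
    (r : Nonempty ((Scheme.Modules.pullback (bcσ f σ hσ u)).obj L ≅ Coh.structureModule U))
    (hb : Function.Surjective (pullback.snd f (triple u)).appTop) :
    ∃ M : X.Modules, PicF.IsInvertible M ∧ Nonempty ((Scheme.Modules.pullback (pullback.fst f u)).obj M ≅ L) := by
  obtain ⟨S⟩ := exists_genSys L hL
  obtain ⟨G⟩ := exists_glue f σ hσ u S α.some r.some hb
  haveI : Flat (pullback.fst f u) := MorphismProperty.pullback_fst _ _ ‹Flat u›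
  haveI : Surjective (pullback.fst f u) := MorphismProperty.pullback_fst _ _ ‹Surjective u›
  exact exists_descended S _ G (exists_frame_cover S _ hq)

end Groth.Agent.H12Pic.InvDesc.Eff
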