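import Groth.Agent.H12Pic.InvDesc.Trivial

/-!
# Units given on test schemes
-/

set_option autoImplicit false
set_option linter.style.haveILetI false
set_option linter.unusedSectionVars false

noncomputable section

universe u

open CategoryTheory CategoryTheory.Limits AlgebraicGeometry TopologicalSpace Opposite

namespace Groth.Agent.H12Pic.InvDesc.Eff

/-- The units of the functions of a scheme. -/
abbrev GU (T : Scheme.{u}) : Type u := (Γ(T, ⊤))ˣ

/-- Pullback of units. -/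
abbrev pull {A B : Scheme.{u}} (m : A ⟶ B) : GU B →* GU A := Units.map (m.appTop.hom : Γ(B, ⊤) →* Γ(A, ⊤))

theorem pull_comp {A B C : Scheme.{u}} (m : A ⟶ B) (n : B ⟶ C) (a : GU C) :
    pull (m ≫ n) a = pull m (pull n a) := Units.ext (ConcreteCategory.congr_hom (Scheme.Hom.comp_appTop m n) _)

theorem pull_id {A : Scheme.{u}} (a : GU A) : pull (𝟙 A) a = a :=
  Units.ext (ConcreteCategory.congr_hom Scheme.Hom.id_appTop _)

theorem pull_congr {A B : Scheme.{u}} {m m' : A ⟶ B} (h : m = m') (a : GU B) : pull m a = pull m' a := by rw [h]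

theorem lands_comp {T' T B : Scheme.{u}} (m : T' ⟶ T) {k : T ⟶ B} {O : B.Opens} (h : (⊤ : T.Opens) ≤ k ⁻¹ᵁ O) :
    (⊤ : T'.Opens) ≤ (m ≫ k) ⁻¹ᵁ O := fun _ _ => h trivial

theorem lands_ι {B : Scheme.{u}} (O : B.Opens) : (⊤ : O.toScheme.Opens) ≤ O.ι ⁻¹ᵁ O := le_ι_preimage O

theorem lands_ι_comp {T B : Scheme.{u}} (k : T ⟶ B) (O : B.Opens) :
    (⊤ : (k ⁻¹ᵁ O).toScheme.Opens) ≤ ((k ⁻¹ᵁ O).ι ≫ k) ⁻¹ᵁ O := fun z _ => z.2

/-- The value of a unit on an open at a test scheme. -/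
def valU {T B : Scheme.{u}} {O : B.Opens} (k : T ⟶ B) (h : (⊤ : T.Opens) ≤ k ⁻¹ᵁ O) (a : Γ(B, O)ˣ) : GU T :=
  Units.map (k.appLE O ⊤ h).hom.toMonoidHom a

theorem valU_comp {T' T B : Scheme.{u}} {O : B.Opens} (m : T' ⟶ T) (k : T ⟶ B) (h : (⊤ : T.Opens) ≤ k ⁻¹ᵁ O)
    (a : Γ(B, O)ˣ) : valU (m ≫ k) (lands_comp m h) a = pull m (valU k h a) :=
  Units.ext (((appTop_eq_appLE m _).trans (appLE_appLE m k h le_rfl (a : Γ(B, O)))).symm)

/-- Functions agreeing locally agree. -/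
theorem eq_of_cover {B : Scheme.{u}} {ι : Type u} (O : ι → B.Opens) (hO : ∀ x, ∃ i, x ∈ O i) {a b : Γ(B, ⊤)}
    (h : ∀ i, (O i).ι.appTop a = (O i).ι.appTop b) : a = b := by
  refine TopCat.Sheaf.eq_of_locally_eq' B.sheaf O ⊤ (fun i => homOfLE le_top)
    (fun x _ => Opens.mem_iSup.2 (hO x)) a b fun i => ?_
  refine (bijective_ι_appLE (O i) (le_ι_preimage _)).1 ?_
  have h₁ := h i
  rw [appTop_eq_appLE, appTop_eq_appLE] at h₁
  change (O i).ι.appLE (O i) ⊤ _ (B.presheaf.map (homOfLE (le_top : O i ≤ ⊤)).op a) =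
    (O i).ι.appLE (O i) ⊤ _ (B.presheaf.map (homOfLE (le_top : O i ≤ ⊤)).op b)
  rw [appLE_res, appLE_res]
  exact h₁

theorem eq_of_cover_units {B : Scheme.{u}} {ι : Type u} (O : ι → B.Opens) (hO : ∀ x, ∃ i, x ∈ O i) {a b : GU B}
    (h : ∀ i, pull (O i).ι a = pull (O i).ι b) : a = b :=
  Units.ext (eq_of_cover O hO fun i => congrArg Units.val (h i))

/-- A natural compatible family of units on the test schemes of a cover is a unit. -/
theorem exists_unit {B : Scheme.{u}} {ι : Type u} (O : ι → B.Opens) (hO : ∀ x, ∃ i, x ∈ O i)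
    (F : ∀ (T : Scheme.{u}) (k : T ⟶ B) (i : ι), (⊤ : T.Opens) ≤ k ⁻¹ᵁ O i → GU T)
    (hnat : ∀ (T' T : Scheme.{u}) (m : T' ⟶ T) (k : T ⟶ B) (i : ι) (h : (⊤ : T.Opens) ≤ k ⁻¹ᵁ O i),
      F T' (m ≫ k) i (lands_comp m h) = pull m (F T k i h))
    (hind : ∀ (T : Scheme.{u}) (k : T ⟶ B) (i j : ι) (h : (⊤ : T.Opens) ≤ k ⁻¹ᵁ O i)
      (h' : (⊤ : T.Opens) ≤ k ⁻¹ᵁ O j), F T k i h = F T k j h') :
    ∃ a : GU B, ∀ (T : Scheme.{u}) (k : T ⟶ B) (i : ι) (h : (⊤ : T.Opens) ≤ k ⁻¹ᵁ O i), pull k a = F T k i h := by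
  have hfun : ∀ G : ∀ (T : Scheme.{u}) (k : T ⟶ B) (i : ι), (⊤ : T.Opens) ≤ k ⁻¹ᵁ O i → GU T,
      (∀ (T' T : Scheme.{u}) (m : T' ⟶ T) (k : T ⟶ B) (i : ι) (h : (⊤ : T.Opens) ≤ k ⁻¹ᵁ O i),
        G T' (m ≫ k) i (lands_comp m h) = pull m (G T k i h)) →
      (∀ (T : Scheme.{u}) (k : T ⟶ B) (i j : ι) (h : (⊤ : T.Opens) ≤ k ⁻¹ᵁ O i)
        (h' : (⊤ : T.Opens) ≤ k ⁻¹ᵁ O j), G T k i h = G T k j h') →
      ∃ a : Γ(B, ⊤), ∀ (T : Scheme.{u}) (k : T ⟶ B) (i : ι) (h : (⊤ : T.Opens) ≤ k ⁻¹ᵁ O i),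
        k.appTop a = (G T k i h : Γ(T, ⊤)) := by
    intro G hGnat hGind
    choose A hA using fun i => (bijective_ι_appLE (O i) (le_ι_preimage _)).2
      (G _ (O i).ι i (lands_ι _) : Γ((O i).toScheme, ⊤))
    obtain ⟨a, ha, -⟩ := TopCat.Sheaf.existsUnique_gluing' B.sheaf O ⊤ (fun i => homOfLE le_top)
      (fun x _ => Opens.mem_iSup.2 (hO x)) A fun i j => by
        let N := O i ⊓ O j
        change B.presheaf.map (homOfLE (inf_le_left : N ≤ O i)).op (A i) =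
          B.presheaf.map (homOfLE (inf_le_right : N ≤ O j)).op (A j)
        refine (bijective_ι_appLE N (le_ι_preimage N)).1 ?_
        rw [appLE_res, appLE_res]
        have hloc : ∀ (l : ι) (hl : N ≤ O l),
            N.ι.appLE (O l) ⊤ ((le_ι_preimage N).trans (N.ι.preimage_mono hl)) (A l) =
              (G _ N.ι l ((le_ι_preimage N).trans (N.ι.preimage_mono hl)) : Γ(N.toScheme, ⊤)) := by
          intro l hl
          have hh := hGnat _ _ (B.homOfLE hl) (O l).ι l (lands_ι _)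
          simp only [Scheme.homOfLE_ι] at hh
          rw [hh, Units.coe_map]
          change _ = (B.homOfLE hl).appTop _
          rw [← hA, appTop_eq_appLE, appLE_appLE]
          exact appLE_congr (B.homOfLE_ι hl).symm _ _
        rw [hloc i inf_le_left, hloc j inf_le_right, hGind _ N.ι i j]
    refine ⟨a, fun T k i h => ?_⟩
    let l : T ⟶ (O i).toScheme := IsOpenImmersion.lift (O i).ι k (by
      rintro _ ⟨x, rfl⟩
      rw [Scheme.Opens.range_ι]
      exact h trivial)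
    have hl : l ≫ (O i).ι = k := IsOpenImmersion.lift_fac _ _ _
    have hh := hGnat _ _ l (O i).ι i (lands_ι _)
    simp only [hl] at hh
    rw [hh, Units.coe_map]
    change k.appTop a = l.appTop _
    rw [← hA, ← ha i, appTop_eq_appLE, appTop_eq_appLE]
    change _ = l.appLE ⊤ ⊤ le_rfl ((O i).ι.appLE (O i) ⊤ _ (B.presheaf.map (homOfLE (le_top : O i ≤ ⊤)).op a))
    rw [appLE_res, appLE_appLE]
    exact (appLE_congr hl _ _).symm
  obtain ⟨a, ha⟩ := hfun F hnat hind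
  obtain ⟨b, hb⟩ := hfun (fun T k i h => (F T k i h)⁻¹)
    (fun T' T m k i h => by rw [hnat T' T m k i h, map_inv]) (fun T k i j h h' => by rw [hind T k i j h h'])
  have hu : ∀ i, (O i).ι.appTop (a * b) = (O i).ι.appTop 1 := fun i => by
    rw [map_mul, map_one, ha _ _ i (lands_ι _), hb _ _ i (lands_ι _), Units.mul_inv]
  exact ⟨(unit_of_mul (eq_of_cover O hO hu)).unit, fun T k i h => Units.ext (ha T k i h)⟩

/-- Pullback of units along a covering map is injective. -/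
theorem pull_injective {P X : Scheme.{u}} (q : P ⟶ X) [Flat q] [Surjective q] [QuasiCompact q] :
    Function.Injective (pull q) := fun a b h =>
  Units.ext (app_injective q ⊤ (congrArg Units.val h))

/-- An invariant unit descends. -/
theorem exists_unit_desc {P X : Scheme.{u}} (q : P ⟶ X) [Flat q] [Surjective q] [QuasiCompact q] (a : GU P)
    (hinv : ∀ (T : Scheme.{u}) (k₁ k₂ : T ⟶ P), k₁ ≫ q = k₂ ≫ q → pull k₁ a = pull k₂ a) :
    ∃ b : GU X, pull q b = a := by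
  have hd : ∀ c : GU P, (∀ (T : Scheme.{u}) (k₁ k₂ : T ⟶ P), k₁ ≫ q = k₂ ≫ q → pull k₁ c = pull k₂ c) →
      ∃ d : Γ(X, ⊤), q.appTop d = (c : Γ(P, ⊤)) := fun c hc =>
    exists_fun_desc q ⊤ (c : Γ(P, ⊤)) fun T k₁ k₂ h₁ h₂ hk => by
      have := congrArg Units.val (hc T k₁ k₂ hk)
      simp only [Units.coe_map] at this
      change k₁.appTop _ = k₂.appTop _ at this
      rw [appTop_eq_appLE, appTop_eq_appLE] at this
      exact this
  obtain ⟨b, hb⟩ := hd a hinv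
  obtain ⟨b', hb'⟩ := hd a⁻¹ fun T k₁ k₂ hk => by rw [map_inv, map_inv, hinv T k₁ k₂ hk]
  refine ⟨(unit_of_mul (b := b') (app_injective q ⊤ ?_)).unit, Units.ext hb⟩
  change q.appTop (b * b') = q.appTop 1
  rw [map_mul, map_one, hb, hb', Units.mul_inv]

end Groth.Agent.H12Pic.InvDesc.Eff
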